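import Cfsg.Agent.Lib.SuzukiTwo.Algebra
import Cfsg.Agent.Lib.Thompson.Cores

/-!
# Bounds for 2-groups all of whose involutions are central

* `card_le_of_anisotropic`: if `V` is a central exponent two subgroup containing all squares and
  all involutions, then `#(K ⧸ V) ≤ (#V) ^ 2` (Chevalley–Warning for the squaring map).
* `four_pow_le`: an elementary abelian group of order `q ^ k`, `q` odd, acting faithfully on an
  abelian group of exponent two has `4 ^ k ≤ #V`.
-/

set_option autoImplicit false

namespace Cfsg.Agent.TwoLenInv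

open SuzukiTwo

universe u v

/-- Chevalley–Warning over two elements, for a map all of whose third differences vanish. -/
theorem finrank_le_of_anisotropic {A B : Type*} [AddCommGroup A] [Finite A] [Module (ZMod 2) A]
    [AddCommGroup B] [Finite B] [Module (ZMod 2) B] (q : A → B) (hq0 : q 0 = 0)
    (hq3 : ∀ x y z, q (x + y + z) + q (x + y) + q (x + z) + q (y + z) + q x + q y + q z = 0)
    (hq : ∀ x, q x = 0 → x = 0) :
    Module.finrank (ZMod 2) A ≤ 2 * Module.finrank (ZMod 2) B := by
  classical
  set d := Module.finrank (ZMod 2) B with hd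
  set w := Module.finrank (ZMod 2) A with hw
  by_contra hlt
  push Not at hlt
  let bB := Module.finBasis (ZMod 2) B
  let bA := Module.finBasis (ZMod 2) A
  let f : Fin d → A → ZMod 2 := fun j x => bB.equivFun (q x) j
  have hf : ∀ j, IsDeg 2 (f j) := by
    intro j a b v
    have h := congrArg (fun t => bB.equivFun t j) (hq3 v a b)
    simp only [map_add, Pi.add_apply, map_zero, Pi.zero_apply] at h
    show f j (v + b + a) + f j (v + b) + (f j (v + a) + f j v) =
      f j (0 + b + a) + f j (0 + b) + (f j (0 + a) + f j 0)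
    rw [zero_add, zero_add, show v + b + a = v + a + b by abel, show b + a = a + b by abel]
    have h0 : f j 0 = 0 := by simp [f, hq0]
    rw [h0, add_zero]
    simp only [f] at h ⊢
    rw [← CharTwo.add_eq_zero]
    linear_combination h
  have hprod : ∀ s : Finset (Fin d), IsDeg (2 * s.card) (fun x => ∏ j ∈ s, (1 + f j x)) := by
    intro s
    induction s using Finset.induction with
    | empty => simpa using IsDeg.const (V := A) 0 1
    | insert j s hjs ih =>
      have h := IsDeg.mul rfl (IsDeg.add (IsDeg.const (V := A) 2 1) (hf j)) ih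
      rw [Finset.card_insert_of_notMem hjs, show 2 * (s.card + 1) = 2 + 2 * s.card by ring]
      simpa only [Finset.prod_insert hjs] using h
  have hval : ∀ x : A, (∏ j : Fin d, (1 + f j x)) = if x = 0 then (1 : ZMod 2) else 0 := by
    intro x
    split_ifs with hx
    · subst hx
      simp [f, hq0]
    · have hne : bB.equivFun (q x) ≠ 0 := fun h => hx (hq x (by simpa using h))
      obtain ⟨j, hj⟩ := Function.ne_iff.mp hne
      refine Finset.prod_eq_zero (Finset.mem_univ j) ?_
      have h1 : f j x = 1 := by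
        have : ∀ t : ZMod 2, t ≠ 0 → t = 1 := by decide
        exact this _ hj
      rw [h1]; decide
  have hsum := sum_cube_eq_zero (k := 2 * (Finset.univ : Finset (Fin d)).card)
    (by simpa using hlt) (hprod Finset.univ) bA
  haveI := Fintype.ofFinite A
  rw [show (∑ x : Fin w → ZMod 2, ∏ j ∈ Finset.univ, (1 + f j (∑ i, x i • bA i))) =
      ∑ a : A, ∏ j : Fin d, (1 + f j a) from
    Fintype.sum_equiv bA.equivFun.symm.toEquiv _ _ fun x => by
      simp [Module.Basis.equivFun_symm_apply]; rfl] at hsum
  simp [hval] at hsum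

/-- A central exponent two subgroup containing all squares and all involutions is large. -/
theorem card_le_of_anisotropic {K : Type*} [Group K] [Finite K] (V : Subgroup K) [V.Normal]
    (hVc : V ≤ Subgroup.center K) (hV2 : ∀ v ∈ V, v ^ 2 = 1) (hsq : ∀ x : K, x ^ 2 ∈ V)
    (hinv : ∀ x : K, x ^ 2 = 1 → x ∈ V) : Nat.card (K ⧸ V) ≤ Nat.card V ^ 2 := by
  classical
  have hQ2 : ∀ w : K ⧸ V, w ^ 2 = 1 := fun w => by
    obtain ⟨x, rfl⟩ := QuotientGroup.mk_surjective w
    rw [← QuotientGroup.mk_pow, QuotientGroup.eq_one_iff]; exact hsq x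
  have hQc : ∀ a b : K ⧸ V, a * b = b * a := fun a b => by
    have hinv' : ∀ c : K ⧸ V, c⁻¹ = c := fun c =>
      inv_eq_of_mul_eq_one_right (by rw [← sq]; exact hQ2 c)
    calc a * b = (a * b)⁻¹ := (hinv' _).symm
      _ = b * a := by rw [mul_inv_rev, hinv', hinv']
  letI : CommGroup (K ⧸ V) := { (inferInstance : Group (K ⧸ V)) with mul_comm := hQc }
  letI : CommGroup V :=
    { (inferInstance : Group V) with
      mul_comm := fun a b => Subtype.ext ((Subgroup.mem_center_iff.mp (hVc b.2)) a) }
  letI : Module (ZMod 2) (Additive (K ⧸ V)) := AddCommGroup.zmodModule fun w => by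
    rw [← ofMul_toMul w, ← ofMul_pow, hQ2, ofMul_one]
  letI : Module (ZMod 2) (Additive V) := AddCommGroup.zmodModule fun w => by
    rw [← ofMul_toMul w, ← ofMul_pow, show (w.toMul) ^ 2 = 1 from Subtype.ext (hV2 _ w.toMul.2),
      ofMul_one]
  have hv : ∀ (x v : K), v ∈ V → (x * v) ^ 2 = x ^ 2 := fun x v hv => by
    rw [(show Commute x v from Subgroup.mem_center_iff.mp (hVc hv) x).mul_pow, hV2 v hv, mul_one]
  let q : K ⧸ V → V := fun w => ⟨w.out ^ 2, hsq _⟩
  have hq : ∀ x : K, ((q (x : K ⧸ V) : V) : K) = x ^ 2 := fun x => by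
    obtain ⟨v, hv'⟩ := QuotientGroup.mk_out_eq_mul V x
    show ((x : K ⧸ V).out) ^ 2 = x ^ 2
    rw [hv', hv x v v.2]
  -- the commutator pairing
  let c : K → K → K := fun x y => y * x * y⁻¹ * x⁻¹
  have hcV : ∀ x y, c x y ∈ V := fun x y => by
    rw [← QuotientGroup.eq_one_iff]
    simp only [c, QuotientGroup.mk_mul, QuotientGroup.mk_inv]
    rw [hQc (y : K ⧸ V) x, mul_inv_cancel_right, mul_inv_cancel]
  have hcc : ∀ x y g, Commute (c x y) g := fun x y g =>
    ((Subgroup.mem_center_iff.mp (hVc (hcV x y))) g).symm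
  have hsq2 : ∀ x y, (x * y) ^ 2 = x ^ 2 * y ^ 2 * c x y := by
    intro x y
    calc (x * y) ^ 2 = x * (c x y * (x * y * y)) := by
          simp only [c, sq, mul_assoc, inv_mul_cancel_left]
      _ = x * (x * y * y * c x y) := by rw [(hcc x y (x * y * y)).eq]
      _ = x ^ 2 * y ^ 2 * c x y := by simp only [sq, mul_assoc]
  have hcmul : ∀ x x' y, c (x * x') y = c x y * c x' y := fun x x' y => by
    have e : c (x * x') y = c x y * (x * c x' y * x⁻¹) := by
      simp only [c]; group
    rw [e, ← (hcc x' y x).eq, mul_inv_cancel_right]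
  let C : K → K → Additive V := fun x y => Additive.ofMul ⟨c x y, hcV x y⟩
  let s : K → Additive V := fun x => Additive.ofMul (q (x : K ⧸ V))
  have hs : ∀ x y, s (x * y) = s x + s y + C x y := fun x y => by
    refine congrArg Additive.ofMul (Subtype.ext ?_)
    show ((q ((x * y : K) : K ⧸ V) : V) : K) = ((q (x : K ⧸ V) : V) : K) * (q (y : K ⧸ V) : V) * c x y
    rw [hq, hq, hq, hsq2]
  have hC : ∀ x x' y, C (x * x') y = C x y + C x' y := fun x x' y =>
    congrArg Additive.ofMul (Subtype.ext (hcmul x x' y))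
  let q' : Additive (K ⧸ V) → Additive V := fun w => Additive.ofMul (q w.toMul)
  have hle := finrank_le_of_anisotropic q' ?_ ?_ ?_
  · rw [show Nat.card (K ⧸ V) = Nat.card (Additive (K ⧸ V)) from rfl,
      show Nat.card V = Nat.card (Additive V) from rfl,
      Module.natCard_eq_pow_finrank (K := ZMod 2) (V := Additive (K ⧸ V)),
      Module.natCard_eq_pow_finrank (K := ZMod 2) (V := Additive V), Nat.card_zmod, ← pow_mul,
      mul_comm _ 2]
    exact Nat.pow_le_pow_right two_pos hle
  · refine congrArg Additive.ofMul (Subtype.ext ?_)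
    show ((q ((1 : K) : K ⧸ V) : V) : K) = ((1 : V) : K)
    rw [hq, one_pow]; rfl
  · intro x y z
    obtain ⟨x, rfl⟩ : ∃ k : K, Additive.ofMul (k : K ⧸ V) = x :=
      ⟨x.toMul.out, by rw [QuotientGroup.out_eq']; rfl⟩
    obtain ⟨y, rfl⟩ : ∃ k : K, Additive.ofMul (k : K ⧸ V) = y :=
      ⟨y.toMul.out, by rw [QuotientGroup.out_eq']; rfl⟩
    obtain ⟨z, rfl⟩ : ∃ k : K, Additive.ofMul (k : K ⧸ V) = z :=
      ⟨z.toMul.out, by rw [QuotientGroup.out_eq']; rfl⟩
    show s (x * y * z) + s (x * y) + s (x * z) + s (y * z) + s x + s y + s z = 0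
    rw [hs (x * y) z, hC, hs x y, hs x z, hs y z]
    have h2 : ∀ t : Additive V, t + t = 0 := fun t => ZModModule.add_self t
    calc _ = (s x + s x) + (s x + s x) + (s y + s y) + (s y + s y) + (s z + s z) + (s z + s z) +
        (C x y + C x y) + (C x z + C x z) + (C y z + C y z) := by abel
      _ = 0 := by simp only [h2, add_zero]
  · intro x hx
    obtain ⟨x, rfl⟩ : ∃ k : K, Additive.ofMul (k : K ⧸ V) = x :=
      ⟨x.toMul.out, by rw [QuotientGroup.out_eq']; rfl⟩
    refine congrArg Additive.ofMul ((QuotientGroup.eq_one_iff x).mpr (hinv x ?_))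
    rw [← hq x]
    exact congrArg (fun t => ((Additive.toMul t : V) : K)) hx

/-- Rank bound for odd elementary abelian groups of automorphisms of an exponent two group. -/
theorem four_pow_le {q : ℕ} (hq : q.Prime) (hq2 : q ≠ 2) :
    ∀ (k : ℕ) {V : Type u} [CommGroup V] [Finite V], (∀ v : V, v ^ 2 = 1) →
      ∀ {A : Type v} [CommGroup A] [Finite A], (∀ a : A, a ^ q = 1) → Nat.card A = q ^ k →
      ∀ φ : A →* MulAut V, Function.Injective φ → 4 ^ k ≤ Nat.card V := by
  classical
  intro k
  induction k with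
  | zero => intro V _ _ _ A _ _ _ _ φ _; rw [pow_zero]; exact Nat.card_pos
  | succ k ih =>
    intro V _ _ hV A _ _ hA hcard φ hφ
    haveI := Fact.mk hq
    have hodd : Odd q := hq.odd_of_ne_two hq2
    let S : Set (Subgroup A) := {B | ∃ v : V, (∀ b ∈ B, φ b v = v) ∧ ∃ a, φ a v ≠ v}
    have hbot : (⊥ : Subgroup A) ∈ S := by
      obtain ⟨a, ha⟩ : ∃ a : A, a ≠ 1 := by
        haveI : Nontrivial A := by
          rw [← Finite.one_lt_card_iff_nontrivial, hcard]
          exact Nat.one_lt_pow (by omega) hq.one_lt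
        exact exists_ne 1
      obtain ⟨v, hv⟩ : ∃ v, φ a v ≠ v := by
        by_contra h
        push Not at h
        exact ha (hφ ((MulEquiv.ext h : φ a = 1).trans (map_one φ).symm))
      exact ⟨v, fun b hb => by rw [Subgroup.mem_bot.mp hb, map_one]; rfl, a, hv⟩
    obtain ⟨B, hB⟩ := S.toFinite.exists_maximal ⟨⊥, hbot⟩
    obtain ⟨v, hvB, a, hav⟩ := hB.1
    have haB : a ∉ B := fun h => hav (hvB a h)
    -- every larger subgroup only fixes fixed points
    have hfix : ∀ (c : A), c ∉ B → ∀ u : V, (∀ b ∈ B, φ b u = u) → φ c u = u → ∀ g, φ g u = u := by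
      intro c hc u hu hcu g
      by_contra hg
      refine hc (hB.2 (y := B ⊔ Subgroup.zpowers c) ⟨u, fun b hb => ?_, g, hg⟩ le_sup_left
        (Subgroup.mem_sup_right (Subgroup.mem_zpowers c)))
      have hle : B ⊔ Subgroup.zpowers c ≤ (MulAction.stabilizer (MulAut V) u).comap φ := by
        rw [sup_le_iff, Subgroup.zpowers_le]
        exact ⟨fun b hb => hu b hb, hcu⟩
      exact hle hb
    let π : A → V → V := fun c u => ∏ i ∈ Finset.range q, φ (c ^ i) u
    have hπfix : ∀ c u, φ c (π c u) = π c u := by
      intro c u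
      simp only [π, map_prod]
      have e : ∀ i, φ c (φ (c ^ i) u) = φ (c ^ (i + 1)) u := fun i => by
        rw [pow_succ', map_mul]; rfl
      simp only [e]
      obtain ⟨m, hm⟩ : ∃ m, q = m + 1 := ⟨q - 1, (Nat.sub_add_cancel hq.pos).symm⟩
      rw [hm, Finset.prod_range_succ, Finset.prod_range_succ', ← hm, hA, pow_zero]
    have hπB : ∀ c u, (∀ b ∈ B, φ b u = u) → ∀ b ∈ B, φ b (π c u) = π c u := by
      intro c u hu b hb
      simp only [π, map_prod]
      refine Finset.prod_congr rfl fun i _ => ?_
      rw [← MulAut.mul_apply, ← map_mul, mul_comm, map_mul, MulAut.mul_apply, hu b hb]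
    have hindex : ∀ g : A, g ∈ B ⊔ Subgroup.zpowers a := by
      by_contra hg
      push Not at hg
      obtain ⟨g, hg⟩ := hg
      have hc : ∀ i : ℕ, g * a ^ i ∉ B := fun i h => hg (by
        have := mul_mem (Subgroup.mem_sup_left (T := Subgroup.zpowers a) h)
          (Subgroup.mem_sup_right (S := B) (inv_mem (pow_mem (Subgroup.mem_zpowers a) i)))
        rwa [mul_inv_cancel_right] at this)
      have hA1 : ∀ h, φ h (π a v) = π a v :=
        hfix a haB _ (hπB a v hvB) (hπfix a v)
      have hA2 : ∀ j h, φ h (π (g * a ^ j) v) = π (g * a ^ j) v := fun j =>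
        hfix _ (hc j) _ (hπB _ v hvB) (hπfix _ v)
      have hprod : (∏ j : ZMod q, π (g * a ^ j.val) v) = v := by
        simp only [π]
        rw [Finset.prod_comm]
        obtain ⟨m, hm⟩ : ∃ m, q = m + 1 := ⟨q - 1, (Nat.sub_add_cancel hq.pos).symm⟩
        rw [show Finset.range q = Finset.range (m + 1) from congrArg _ hm, Finset.prod_range_succ']
        simp only [pow_zero, map_one, MulAut.one_apply, Finset.prod_const, Finset.card_univ,
          ZMod.card]
        rw [show v ^ q = v by
          obtain ⟨r, hr⟩ := hodd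
          rw [hr, pow_succ, pow_mul, hV, one_pow, one_mul]]
        rw [Finset.prod_eq_pow_card (b := π a v), Finset.card_range]
        · obtain ⟨r, hr⟩ := hodd
          rw [show m = 2 * r by omega, pow_mul, hV, one_pow, one_mul]
        · intro i hi
          rw [Finset.mem_range] at hi
          rw [← hA1 (g ^ (i + 1))]
          simp only [π, map_prod]
          have hu : ((i + 1 : ℕ) : ZMod q) ≠ 0 := by
            rw [Ne, ZMod.natCast_eq_zero_iff]
            exact fun h => by have := Nat.le_of_dvd (by omega) h; omega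
          refine Finset.prod_bij' (fun (j : ZMod q) _ => (j * (i + 1 : ℕ)).val)
            (fun (t : ℕ) _ => (t : ZMod q) * ((i + 1 : ℕ) : ZMod q)⁻¹) ?_ ?_ ?_ ?_ ?_
          · intro j _; exact Finset.mem_range.mpr (ZMod.val_lt _)
          · intro t _; exact Finset.mem_univ _
          · intro j _; rw [ZMod.natCast_zmod_val, mul_assoc, mul_inv_cancel₀ hu, mul_one]
          · intro t ht
            rw [mul_assoc, inv_mul_cancel₀ hu, mul_one, ZMod.val_natCast,
              Nat.mod_eq_of_lt (Finset.mem_range.mp ht)]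
          · intro j _
            rw [← MulAut.mul_apply, ← map_mul, mul_pow, ← pow_mul]
            congr 3
            rw [ZMod.val_mul, ZMod.val_natCast]
            have : orderOf a ∣ q := orderOf_dvd_of_pow_eq_one (hA a)
            rw [Nat.mul_mod, Nat.mod_mod, ← Nat.mul_mod]
            exact pow_eq_pow_mod _ (hA a)
      refine hav ?_
      conv_lhs => rw [← hprod, map_prod]
      conv_rhs => rw [← hprod]
      exact Finset.prod_congr rfl fun j _ => hA2 _ a
    -- the projection onto the fixed points of `B`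
    haveI := Fintype.ofFinite B
    let Pr : V →* V :=
      { toFun := fun u => ∏ b : B, φ b u
        map_one' := by simp
        map_mul' := fun x y => by simp [Finset.prod_mul_distrib] }
    have hBodd : Odd (Fintype.card B) := by
      rw [← Nat.card_eq_fintype_card]
      exact (hcard ▸ (hodd.pow : Odd (q ^ (k + 1)))).of_dvd_nat (Subgroup.card_subgroup_dvd_card B)
    have hPrfix : ∀ b ∈ B, ∀ u, φ b (Pr u) = Pr u := fun b hb u => by
      show φ b (∏ c : B, φ c u) = ∏ c : B, φ c u
      rw [map_prod]
      exact Fintype.prod_equiv (Equiv.mulLeft (⟨b, hb⟩ : B)) _ _ fun c => by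
        rw [← MulAut.mul_apply, ← map_mul]; rfl
    have hPrid : ∀ u, (∀ b ∈ B, φ b u = u) → Pr u = u := fun u hu => by
      show (∏ c : B, φ c u) = u
      rw [Finset.prod_congr rfl fun (c : B) _ => hu c c.2, Finset.prod_const, Finset.card_univ]
      obtain ⟨r, hr⟩ := hBodd
      rw [hr, pow_succ, pow_mul, hV, one_pow, one_mul]
    have hV1 : 4 ≤ Nat.card Pr.range := by
      have hv1 : v ≠ 1 := fun h => hav (by rw [h, map_one])
      have hmem : v ∈ Pr.range := ⟨v, hPrid v hvB⟩
      have hmem' : φ a v ∈ Pr.range := ⟨φ a v, hPrid _ fun b hb => by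
        rw [← MulAut.mul_apply, ← map_mul, mul_comm, map_mul, MulAut.mul_apply, hvB b hb]⟩
      have ha1 : φ a v ≠ 1 := fun h => hv1 ((φ a).injective (h.trans (map_one _).symm))
      let f : Fin 4 → Pr.range := ![1, ⟨v, hmem⟩, ⟨φ a v, hmem'⟩, ⟨v * φ a v, mul_mem hmem hmem'⟩]
      have hinv : ∀ x : V, x⁻¹ = x := fun x => inv_eq_of_mul_eq_one_right (by rw [← sq]; exact hV x)
      have h3 : v * φ a v ≠ 1 := fun h => hav ((eq_inv_of_mul_eq_one_right h).trans (hinv v))
      have h4 : v * φ a v ≠ v := fun h => ha1 (mul_eq_left.mp h)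
      have h5 : v * φ a v ≠ φ a v := fun h => hv1 (mul_eq_right.mp h)
      have hf : Function.Injective f := by
        intro i j hij
        have hij' := congrArg (fun t : Pr.range => (t : V)) hij
        fin_cases i <;> fin_cases j <;>
          first
            | rfl
            | (simp [f, hv1, hv1.symm, ha1, ha1.symm, hav, Ne.symm hav, h3, h3.symm, h4, h4.symm,
                h5, h5.symm] at hij')
      simpa using Nat.card_le_card_of_injective f hf
    have hBcard : q ^ k ≤ Nat.card B := by
      have h1 : (B ⊔ Subgroup.zpowers a) = ⊤ := top_le_iff.mp fun g _ => hindex g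
      have h2 : Nat.card (B ⊔ Subgroup.zpowers a : Subgroup A) ∣
          Nat.card B * Nat.card (Subgroup.zpowers a) := Thompson.card_sup_dvd_mul _ _
      rw [h1, Subgroup.card_top, hcard, Nat.card_zpowers] at h2
      have h3 : orderOf a ≤ q := Nat.le_of_dvd hq.pos (orderOf_dvd_of_pow_eq_one (hA a))
      have h4 := Nat.le_of_dvd (by have := Nat.card_pos (α := B); have := orderOf_pos a; positivity) h2
      rw [pow_succ] at h4
      exact Nat.le_of_mul_le_mul_right (h4.trans (Nat.mul_le_mul_left _ h3)) hq.pos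
    obtain ⟨B', hB'c, hB'B⟩ := Sylow.exists_subgroup_card_pow_prime_le (p := q) (n := 0) (m := k) (by
        obtain ⟨m, -, hm⟩ := (Nat.dvd_prime_pow hq).mp (hcard ▸ Subgroup.card_subgroup_dvd_card B)
        rw [hm] at hBcard ⊢
        exact pow_dvd_pow q ((Nat.pow_le_pow_iff_right hq.one_lt).mp hBcard)) (⊥ : Subgroup B)
      (show Nat.card (⊥ : Subgroup B) = q ^ 0 by simp) (Nat.zero_le k)
    -- `B` acts faithfully on the kernel
    have hker : ∀ (b : B) (x : Pr.ker), φ (b : A) (x : V) ∈ Pr.ker := fun b x => by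
      show Pr (φ (b : A) (x : V)) = 1
      have e : Pr (φ (b : A) (x : V)) = φ (b : A) (Pr (x : V)) := by
        show (∏ c : B, φ c (φ (b : A) (x : V))) = φ (b : A) (∏ c : B, φ c (x : V))
        rw [map_prod]
        refine Finset.prod_congr rfl fun c _ => ?_
        show φ (c : A) (φ (b : A) (x : V)) = φ (b : A) (φ (c : A) (x : V))
        rw [show φ (c : A) (φ (b : A) (x : V)) = φ ((c : A) * b) (x : V) by rw [map_mul]; rfl, mul_comm,
          map_mul]
        rfl
      rw [e, show Pr (x : V) = 1 from x.2, map_one]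
    let ψ : B' →* MulAut Pr.ker :=
      { toFun := fun b => MulEquiv.ofBijective
          ({ toFun := fun x => ⟨φ ((b : B) : A) (x : V), hker b x⟩
             map_one' := Subtype.ext (map_one _)
             map_mul' := fun x y => Subtype.ext (map_mul _ _ _) } : Pr.ker →* Pr.ker)
          (Finite.injective_iff_bijective.mp fun x y h =>
            Subtype.ext ((φ ((b : B) : A)).injective (congrArg Subtype.val h)))
        map_one' := MulEquiv.ext fun x => Subtype.ext (by simp)
        map_mul' := fun b c => MulEquiv.ext fun x => Subtype.ext (by simp) }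
    have hψ : Function.Injective ψ := by
      rw [injective_iff_map_eq_one]
      intro b hb
      refine Subtype.ext (Subtype.ext (hφ (Eq.trans (MulEquiv.ext fun u => ?_) (map_one φ).symm)))
      have h1 : φ ((b : B) : A) ((u * (Pr u)⁻¹)) = u * (Pr u)⁻¹ := by
        have hm : u * (Pr u)⁻¹ ∈ Pr.ker := by
          rw [MonoidHom.mem_ker, map_mul, map_inv, hPrid (Pr u) (fun c hc => hPrfix c hc u),
            mul_inv_cancel]
        exact congrArg Subtype.val (DFunLike.congr_fun hb ⟨_, hm⟩)
      rw [map_mul, map_inv, hPrfix _ (b : B).2] at h1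
      exact mul_right_cancel h1
    haveI : Finite Pr.ker := inferInstance
    have := ih (V := Pr.ker) (fun x => Subtype.ext (hV x)) (A := B')
      (fun b => Subtype.ext (Subtype.ext (hA _))) hB'c ψ hψ
    have hc := Pr.ker.card_eq_card_quotient_mul_card_subgroup
    rw [Nat.card_congr (QuotientGroup.quotientKerEquivRange Pr).toEquiv] at hc
    rw [hc, pow_succ, mul_comm]
    exact Nat.mul_le_mul hV1 this

end Cfsg.Agent.TwoLenInv
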