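import Cfsg.Agent.TwoLenInv.Main

/-!
# Solvable groups with one class of involutions have `2`-length one
-/

set_option autoImplicit false

namespace Cfsg.Agent.TwoLenInv

open Cfsg

variable {G : Type*} [Group G] [Finite G]

theorem upperPSeries_succ_even {p n : ℕ} (hn : Even n) :
    (upperPSeries p G (n + 1)).1 =
      (pPrimeCore p (G ⧸ (upperPSeries p G n).1)).comap (QuotientGroup.mk' _) := by
  rw [upperPSeries, if_pos hn]

theorem upperPSeries_succ_odd {p n : ℕ} (hn : ¬ Even n) :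
    (upperPSeries p G (n + 1)).1 =
      (pCore p (G ⧸ (upperPSeries p G n).1)).comap (QuotientGroup.mk' _) := by
  rw [upperPSeries, if_neg hn]

/-- Abelian `2`-groups with automorphisms transitive on involutions are homocyclic. -/
theorem exists_homocyclic {P : Type*} [CommGroup P] [Finite P] (hP : IsPGroup 2 P)
    (htr : ∀ x y : P, x ≠ 1 → x ^ 2 = 1 → y ≠ 1 → y ^ 2 = 1 → ∃ a : MulAut P, a x = y) :
    ∃ m r : ℕ, Nonempty (P ≃* (Fin r → Multiplicative (ZMod (2 ^ m)))) := by
  classical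
  haveI := Fact.mk Nat.prime_two
  obtain ⟨ι, hι, n, hn, ⟨e⟩⟩ := CommGroup.equiv_prod_multiplicative_zmod_of_finite P
  let gen : ι → ℕ → (∀ i, Multiplicative (ZMod (n i))) := fun i t =>
    Pi.mulSingle i (Multiplicative.ofAdd ((t : ZMod (n i))))
  have hpow : ∀ i, ∃ m, n i = 2 ^ m := fun i => by
    obtain ⟨k, hk⟩ := IsPGroup.iff_card.mp hP
    obtain ⟨m, -, hm⟩ := (Nat.dvd_prime_pow Nat.prime_two).mp (show n i ∣ 2 ^ k by
      rw [← hk, Nat.card_congr e.toEquiv, Nat.card_pi]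
      exact dvd_trans (dvd_of_eq (by rw [Nat.card_congr Multiplicative.toAdd, Nat.card_zmod]))
        (Finset.dvd_prod_of_mem _ (Finset.mem_univ i)))
    exact ⟨m, hm⟩
  choose M hM using hpow
  have hM0 : ∀ i, 1 ≤ M i := fun i => Nat.one_le_iff_ne_zero.mpr fun h => by
    have := hn i
    rw [hM, h, pow_zero] at this
    omega
  let z : ι → (∀ i, Multiplicative (ZMod (n i))) := fun i => gen i (2 ^ (M i - 1))
  have hz1 : ∀ i, z i ≠ 1 := fun i h => by
    have h1 := congrArg (fun f : ∀ j, Multiplicative (ZMod (n j)) => Multiplicative.toAdd (f i)) h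
    simp only [z, gen, Pi.mulSingle_eq_same, toAdd_ofAdd, Pi.one_apply, toAdd_one,
      ZMod.natCast_eq_zero_iff, hM i] at h1
    have := (Nat.pow_dvd_pow_iff_le_right (by norm_num)).mp h1
    have := hM0 i
    omega
  have hz2 : ∀ i, z i ^ 2 = 1 := fun i => by
    rw [show z i = Pi.mulSingle i (Multiplicative.ofAdd (((2 ^ (M i - 1) : ℕ) : ZMod (n i)))) from rfl,
      ← Pi.mulSingle_pow, ← ofAdd_nsmul, nsmul_eq_mul, ← Nat.cast_mul, ← pow_succ']
    rw [show M i - 1 + 1 = M i by have := hM0 i; omega, ← hM i, ZMod.natCast_self, ofAdd_zero,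
      Pi.mulSingle_one]
  have hle : ∀ i j, M j ≤ M i := by
    intro i j
    by_contra hlt
    push Not at hlt
    obtain ⟨a, ha⟩ := htr (e.symm (z j)) (e.symm (z i))
      (fun h => hz1 j (e.symm.injective (h.trans (map_one _).symm)))
      (by rw [← map_pow, hz2, map_one])
      (fun h => hz1 i (e.symm.injective (h.trans (map_one _).symm)))
      (by rw [← map_pow, hz2, map_one])
    -- `z j` is a high power
    have hzj : z j = gen j 1 ^ (2 ^ (M j - 1)) := by
      simp only [z, gen]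
      rw [← Pi.mulSingle_pow, ← ofAdd_nsmul, nsmul_eq_mul, Nat.cast_one, mul_one]
    have h1 : z i = (e (a (e.symm (gen j 1)))) ^ (2 ^ (M j - 1)) := by
      have h2 := congrArg e ha
      rw [MulEquiv.apply_symm_apply, hzj, map_pow, map_pow, map_pow] at h2
      exact h2.symm
    refine hz1 i (funext fun t => ?_)
    by_cases ht : t = i
    · subst ht
      rw [congrFun h1 t, Pi.pow_apply, Pi.one_apply]
      refine orderOf_dvd_iff_pow_eq_one.mp (dvd_trans (orderOf_dvd_natCard _) ?_)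
      rw [Nat.card_congr Multiplicative.toAdd, Nat.card_zmod, hM t]
      exact pow_dvd_pow 2 (by omega)
    · simp [z, gen, Pi.mulSingle_eq_of_ne ht]
  rcases isEmpty_or_nonempty ι with hemp | ⟨⟨i₀⟩⟩
  · refine ⟨0, 0, ⟨e.trans ?_⟩⟩
    exact MulEquiv.ofUnique
  · refine ⟨M i₀, Fintype.card ι, ⟨e.trans ?_⟩⟩
    refine (MulEquiv.piCongrRight fun i => ?_).trans
      (MulEquiv.arrowCongr (Fintype.equivFin ι) (MulEquiv.refl _))
    exact AddEquiv.toMultiplicative (ZMod.ringEquivCongr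
      (by rw [hM i, le_antisymm (hle i₀ i) (hle i i₀)])).toAddEquiv

/-- **The theorem.** -/
theorem conclusion (hG : Group.IsSolvable G) (S : Sylow 2 G)
    (htwo : ∃ x y : G, x ∈ (S : Subgroup G) ∧ y ∈ (S : Subgroup G) ∧ x ≠ y ∧ x ≠ 1 ∧ x ^ 2 = 1 ∧
      y ≠ 1 ∧ y ^ 2 = 1)
    (hconj : ∀ x y : G, x ≠ 1 → x ^ 2 = 1 → y ≠ 1 → y ^ 2 = 1 → IsConj x y) :
    PLengthLE 2 1 G ∧
      ((∃ m r : ℕ, Nonempty (↥(S : Subgroup G) ≃* (Fin r → Multiplicative (ZMod (2 ^ m))))) ∨
      (¬ IsMulCommutative (S : Subgroup G) ∧ ∃ Y : Subgroup (MulAut ↥(S : Subgroup G)),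
        Group.IsSolvable Y ∧ ∀ x y : ↥(S : Subgroup G), x ≠ 1 → x ^ 2 = 1 → y ≠ 1 → y ^ 2 = 1 →
          ∃ a ∈ Y, a x = y)) := by
  classical
  haveI := Fact.mk Nat.prime_two
  haveI := hG
  set N := pPrimeCore 2 G with hN
  let π := QuotientGroup.mk' N
  have hNcop : (Nat.card N).Coprime 2 := Thompson.card_pPrimeCore_coprime
  have hNS : ∀ s ∈ (S : Subgroup G), s ∈ N → s = 1 := fun s hs hsN => by
    obtain ⟨k, hk⟩ := S.2 ⟨s, hs⟩
    have h1 : s ^ (2 ^ k) = 1 := by simpa using congrArg Subtype.val hk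
    have h2 : s ^ Nat.card N = 1 := by
      have := pow_card_eq_one' (G := N) (x := ⟨s, hsN⟩)
      exact (SubmonoidClass.coe_pow _ _).symm.trans (congrArg Subtype.val this)
    have h3 := pow_gcd_eq_one.mpr ⟨h1, h2⟩
    rwa [(hNcop.symm.pow_left k).gcd_eq_one, pow_one] at h3
  have hinjS : ∀ s ∈ (S : Subgroup G), ∀ t ∈ (S : Subgroup G), π s = π t → s = t := fun s hs t ht e =>
    inv_mul_eq_one.mp (hNS _ (mul_mem (inv_mem hs) ht) (QuotientGroup.eq.mp e))
  -- the hypotheses for the quotient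
  have hlift : ∀ X : G ⧸ N, X ≠ 1 → X ^ 2 = 1 → ∃ g, g ≠ 1 ∧ g ^ 2 = 1 ∧ π g = X := by
    intro X hX1 hX
    obtain ⟨g, rfl⟩ := QuotientGroup.mk'_surjective N X
    have h0 : orderOf g ≠ 0 := (orderOf_pos g).ne'
    set m := ordCompl[2] (orderOf g) with hm
    have hmodd : Odd m := Nat.coprime_two_left.mp (Nat.coprime_ordCompl Nat.prime_two h0)
    have hπ : π (g ^ m) = π g := by
      obtain ⟨r, hr⟩ := hmodd
      rw [map_pow, hr, pow_succ, pow_mul, hX, one_pow, one_mul]
    refine ⟨g ^ m, fun e => hX1 (by rw [← hπ, e, map_one]), ?_, hπ⟩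
    have h1 : ((g ^ m) ^ 2) ^ (2 ^ (orderOf g).factorization 2) = 1 := by
      rw [← pow_mul (g ^ m), mul_comm 2, pow_mul (g ^ m), ← pow_mul g, mul_comm m, hm,
        Nat.ordProj_mul_ordCompl_eq_self, pow_orderOf_eq_one, one_pow]
    have h2 : (g ^ m) ^ 2 ∈ N := by
      rw [← QuotientGroup.eq_one_iff]
      show π ((g ^ m) ^ 2) = 1
      rw [map_pow, hπ, hX]
    have h3 : ((g ^ m) ^ 2) ^ Nat.card N = 1 := by
      have := pow_card_eq_one' (G := N) (x := ⟨_, h2⟩)
      exact (SubmonoidClass.coe_pow _ _).symm.trans (congrArg Subtype.val this)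
    have h4 := pow_gcd_eq_one.mpr ⟨h1, h3⟩
    rwa [(hNcop.symm.pow_left _).gcd_eq_one, pow_one] at h4
  obtain ⟨x₀, y₀, hxS, hyS, hxy, hx1, hx2, hy1, hy2⟩ := htwo
  have hyp : Hyp (G ⧸ N) :=
    { sol := inferInstance
      core := Thompson.pPrimeCore_quotient_pPrimeCore
      conj := fun X Y hX1 hX hY1 hY => by
        obtain ⟨g, hg1, hg2, rfl⟩ := hlift X hX1 hX
        obtain ⟨g', hg1', hg2', rfl⟩ := hlift Y hY1 hY
        obtain ⟨c, hc⟩ := isConj_iff.mp (hconj g g' hg1 hg2 hg1' hg2')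
        exact isConj_iff.mpr ⟨π c, by rw [← map_inv, ← map_mul, ← map_mul, hc]⟩
      two := ⟨π x₀, π y₀, fun e => hxy (hinjS _ hxS _ hyS e),
        fun e => hx1 (hinjS _ hxS _ (one_mem _) (e.trans (map_one π).symm)),
        by rw [← map_pow, hx2, map_one],
        fun e => hy1 (hinjS _ hyS _ (one_mem _) (e.trans (map_one π).symm)),
        by rw [← map_pow, hy2, map_one]⟩ }
  -- the image of `S` is `O₂`
  set Q₁ := pCore 2 (G ⧸ N) with hQ₁
  have hle : (S : Subgroup G).map π ≤ Q₁ := by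
    rintro _ ⟨s, hs, rfl⟩
    obtain ⟨k, hk⟩ := S.2 ⟨s, hs⟩
    refine hyp.mem_pCore k _ ?_
    have h1 : s ^ (2 ^ k) = 1 := by simpa using congrArg Subtype.val hk
    rw [← map_pow, h1, map_one]
  let f : (S : Subgroup G) →* Q₁ := (π.comp (S : Subgroup G).subtype).codRestrict Q₁
    fun s => hle ⟨s, s.2, rfl⟩
  have hfinj : Function.Injective f := fun s t e =>
    Subtype.ext (hinjS _ s.2 _ t.2 (congrArg Subtype.val e))
  have hcard : Nat.card Q₁ ≤ Nat.card (S : Subgroup G) := by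
    obtain ⟨j, hj⟩ := IsPGroup.iff_card.mp (Thompson.isPGroup_pCore (p := 2) (G := G ⧸ N))
    rw [hj, S.card_eq_multiplicity]
    refine Nat.pow_le_pow_right two_pos ?_
    refine (Nat.prime_two.pow_dvd_iff_le_factorization Nat.card_pos.ne').mp ?_
    rw [← hj]
    exact (Subgroup.card_subgroup_dvd_card Q₁).trans (Subgroup.card_quotient_dvd_card N)
  have hfbij : Function.Bijective f :=
    (Nat.bijective_iff_injective_and_card f).mpr
      ⟨hfinj, le_antisymm (Nat.card_le_card_of_injective f hfinj) hcard⟩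
  let e : (S : Subgroup G) ≃* Q₁ := MulEquiv.ofBijective f hfbij
  constructor
  · -- `2`-length
    set U1 := (upperPSeries 2 G 1).1 with hU1
    haveI : U1.Normal := (upperPSeries 2 G 1).2
    set U2 := (upperPSeries 2 G 2).1 with hU2
    haveI : U2.Normal := (upperPSeries 2 G 2).2
    have hNU1 : N ≤ U1 := by
      intro g hg
      rw [hU1, upperPSeries_succ_even (by decide), Subgroup.mem_comap]
      exact Thompson.map_pPrimeCore_le_of_surjective _ (QuotientGroup.mk'_surjective _) ⟨g, hg, rfl⟩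
    have hSU2 : (S : Subgroup G) ≤ U2 := by
      intro s hs
      rw [hU2, upperPSeries_succ_odd (by decide), Subgroup.mem_comap]
      exact Thompson.map_pCore_le_of_surjective
        (QuotientGroup.map N U1 (MonoidHom.id G) hNU1)
        (QuotientGroup.map_surjective_of_surjective N U1 (MonoidHom.id G)
          QuotientGroup.mk_surjective hNU1)
        ⟨π s, hle ⟨s, hs, rfl⟩, rfl⟩
    show (upperPSeries 2 G 3).1 = ⊤
    rw [upperPSeries_succ_even (by decide)]
    have h3 : pPrimeCore 2 (G ⧸ U2) = ⊤ := by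
      rw [Thompson.pPrimeCore_eq_top_iff]
      refine Nat.Coprime.symm (Nat.prime_two.coprime_iff_not_dvd.mpr fun hdvd => ?_)
      exact S.not_dvd_index (dvd_trans hdvd (Subgroup.index_dvd_of_le hSU2))
    rw [h3, Subgroup.comap_top]
  · -- the structure of `S`
    let Φ : G ⧸ N →* MulAut (S : Subgroup G) :=
      ((MulAut.congr e.symm).toMonoidHom).comp MulAut.conjNormal
    have htr : ∀ x y : (S : Subgroup G), x ≠ 1 → x ^ 2 = 1 → y ≠ 1 → y ^ 2 = 1 →
        ∃ a ∈ Φ.range, a x = y := by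
      intro x y hx1' hx hy1' hy
      have hne : ∀ z : (S : Subgroup G), z ≠ 1 → ((e z : Q₁) : G ⧸ N) ≠ 1 := fun z hz h =>
        hz (e.injective ((Subtype.ext h : e z = 1).trans (map_one e).symm))
      have hsq : ∀ z : (S : Subgroup G), z ^ 2 = 1 → ((e z : Q₁) : G ⧸ N) ^ 2 = 1 := fun z hz => by
        rw [← SubmonoidClass.coe_pow, ← map_pow, hz, map_one]; rfl
      obtain ⟨c, hc⟩ := isConj_iff.mp (hyp.conj _ _ (hne x hx1') (hsq x hx) (hne y hy1') (hsq y hy))
      refine ⟨Φ c, ⟨c, rfl⟩, ?_⟩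
      show e.symm (MulAut.conjNormal c (e x)) = y
      rw [MulEquiv.symm_apply_eq]
      exact Subtype.ext (by rw [MulAut.conjNormal_apply]; exact hc)
    by_cases hab : IsMulCommutative (S : Subgroup G)
    · left
      letI : CommGroup (S : Subgroup G) :=
        { (inferInstance : Group (S : Subgroup G)) with mul_comm := hab.is_comm.comm }
      exact exists_homocyclic S.2 fun x y a b c d => by
        obtain ⟨α, -, hα⟩ := htr x y a b c d
        exact ⟨α, hα⟩
    · right
      exact ⟨hab, Φ.range,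
        Group.isSolvable_of_surjective (f := Φ.rangeRestrict) Φ.rangeRestrict_surjective, htr⟩

end Cfsg.Agent.TwoLenInv
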