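import Cfsg.Prelude.Def_Local
import Cfsg.Agent.Lib.Coprime.Action
import Cfsg.Agent.Lib.Fitting.Minimal
import Cfsg.Agent.Lib.Thompson.Cores
import Cfsg.Agent.Lib.Components.GenFitting
import Cfsg.Agent.Lib.PGroup.Basic
import Cfsg.Agent.Lib.NumberTheory.Zsigmondy

/-!
# Solvable groups with trivial odd core and one class of involutions: basic facts
-/

set_option autoImplicit false

namespace Cfsg.Agent.TwoLenInv

/-- The hypothesis: solvable, trivial odd core, all involutions conjugate, at least two involutions. -/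
structure Hyp (G : Type*) [Group G] : Prop where
  sol : Group.IsSolvable G
  core : Cfsg.pPrimeCore 2 G = ⊥
  conj : ∀ x y : G, x ≠ 1 → x ^ 2 = 1 → y ≠ 1 → y ^ 2 = 1 → IsConj x y
  two : ∃ x y : G, x ≠ y ∧ x ≠ 1 ∧ x ^ 2 = 1 ∧ y ≠ 1 ∧ y ^ 2 = 1

variable {G : Type*} [Group G]

/-- `V = Ω₁(Z(O₂(G)))`. -/
def omegaSub (G : Type*) [Group G] : Subgroup G where
  carrier := {x | x ∈ Cfsg.pCore 2 G ∧ x ∈ Subgroup.centralizer (Cfsg.pCore 2 G : Set G) ∧ x ^ 2 = 1}
  one_mem' := ⟨one_mem _, one_mem _, one_pow 2⟩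
  mul_mem' := fun {x y} hx hy => ⟨mul_mem hx.1 hy.1, mul_mem hx.2.1 hy.2.1, by
    rw [(show Commute x y from (Subgroup.mem_centralizer_iff.mp hy.2.1 x hx.1)).mul_pow, hx.2.2,
      hy.2.2, one_mul]⟩
  inv_mem' := fun {x} hx => ⟨inv_mem hx.1, inv_mem hx.2.1, by rw [inv_pow, hx.2.2, inv_one]⟩

theorem mem_omegaSub {x : G} : x ∈ omegaSub G ↔
    x ∈ Cfsg.pCore 2 G ∧ x ∈ Subgroup.centralizer (Cfsg.pCore 2 G : Set G) ∧ x ^ 2 = 1 := Iff.rfl

instance omegaSub_normal : (omegaSub G).Normal where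
  conj_mem := fun x hx g =>
    ⟨Thompson.instPCoreNormal.conj_mem x hx.1 g,
      (Subgroup.normal_centralizer).conj_mem x hx.2.1 g, by rw [conj_pow, hx.2.2, mul_one, mul_inv_cancel]⟩

/-- `C = C_G(V)`. -/
abbrev cenV (G : Type*) [Group G] : Subgroup G := Subgroup.centralizer (omegaSub G : Set G)

instance cenV_normal : (cenV G).Normal := Subgroup.normal_centralizer

theorem pCore_le_cenV : Cfsg.pCore 2 G ≤ cenV G := fun x hx =>
  Subgroup.mem_centralizer_iff.mpr fun v hv => (Subgroup.mem_centralizer_iff.mp hv.2.1 x hx).symm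

/-- `g` fixes no involution of `V`. -/
def Fpf (g : G) : Prop := ∀ v ∈ omegaSub G, g * v * g⁻¹ = v → v = 1

/-- The action on `V`. -/
noncomputable abbrev act (G : Type*) [Group G] : G →* MulAut (omegaSub G) := MulAut.conjNormal

theorem act_eq_one_iff {g : G} : act G g = 1 ↔ g ∈ cenV G := by
  rw [Subgroup.mem_centralizer_iff]
  constructor
  · intro h v hv
    have := congrArg (fun f : MulAut (omegaSub G) => ((f ⟨v, hv⟩ : omegaSub G) : G)) h
    simp only [MulAut.conjNormal_apply, MulAut.one_apply] at this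
    exact (mul_inv_eq_iff_eq_mul.mp this).symm
  · intro h
    ext v
    simp only [MulAut.conjNormal_apply, MulAut.one_apply]
    rw [mul_inv_eq_iff_eq_mul]
    exact (h v v.2).symm

theorem fpf_iff {g : G} : Fpf g ↔ ∀ v : omegaSub G, act G g v = v → v = 1 := by
  constructor
  · intro h v hv
    exact Subtype.ext (h v v.2 (by simpa [MulAut.conjNormal_apply] using congrArg Subtype.val hv))
  · intro h v hv hgv
    exact congrArg Subtype.val (h ⟨v, hv⟩ (Subtype.ext (by simpa [MulAut.conjNormal_apply] using hgv)))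

theorem Fpf.of_act_eq {g h : G} (hg : Fpf g) (e : act G h = act G g) : Fpf h := by
  rw [fpf_iff] at hg ⊢; rwa [e]

theorem pow_mulAut_fix {A : Type*} [Group A] (a : MulAut A) (v : A) (hv : a v = v) :
    ∀ n : ℕ, (a ^ n) v = v
  | 0 => rfl
  | n + 1 => by rw [pow_succ, MulAut.mul_apply, hv, pow_mulAut_fix a v hv n]

theorem Fpf.pow {g : G} (hg : Fpf g) {m : ℕ} (hm : m.Coprime (orderOf (act G g))) : Fpf (g ^ m) := by
  rw [fpf_iff] at hg ⊢
  intro v hv
  obtain ⟨n, hn⟩ := exists_pow_eq_self_of_coprime hm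
  refine hg v ?_
  rw [map_pow] at hv
  rw [← hn]
  exact pow_mulAut_fix _ v hv n

variable [Finite G]

/-- A power of `g` is an `l`-element with the same kind of action. -/
theorem exists_lElem {g : G} {l : ℕ} (hl : l.Prime) (hord : orderOf (act G g) = l) :
    ∃ m : ℕ, m.Coprime l ∧ ∃ k : ℕ, (g ^ m) ^ (l ^ k) = 1 := by
  have h0 : orderOf g ≠ 0 := (orderOf_pos g).ne'
  refine ⟨ordCompl[l] (orderOf g), Nat.coprime_ordCompl hl h0 |>.symm, (orderOf g).factorization l, ?_⟩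
  rw [← pow_mul, mul_comm, Nat.ordProj_mul_ordCompl_eq_self, pow_orderOf_eq_one]

theorem Hyp.centralizer_le (h : Hyp G) :
    Subgroup.centralizer (Cfsg.pCore 2 G : Set G) ≤ Cfsg.pCore 2 G := by
  haveI := Fact.mk Nat.prime_two
  haveI := h.sol
  have hc := Fitting.centralizer_fitting_le (G := G)
  rwa [Components.fitting_eq_pCore_of_pPrimeCore_eq_bot (p := 2) h.core] at hc

theorem Hyp.exists_mem_ne_one (h : Hyp G) : ∃ t : G, t ∈ omegaSub G ∧ t ≠ 1 := by
  haveI := Fact.mk Nat.prime_two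
  haveI := h.sol
  set Q := Cfsg.pCore 2 G
  have hQ : IsPGroup 2 Q := Thompson.isPGroup_pCore
  have hQne : Q ≠ ⊥ := by
    intro hb
    have hle := h.centralizer_le
    rw [show Cfsg.pCore 2 G = ⊥ from hb] at hle
    obtain ⟨x, -, -, hx, -⟩ := h.two
    exact hx (Subgroup.mem_bot.mp (hle (Subgroup.mem_centralizer_iff.mpr fun y hy => by
      rw [Subgroup.mem_bot.mp hy, one_mul, mul_one])))
  haveI : Nontrivial Q := (Subgroup.nontrivial_iff_ne_bot Q).mpr hQne
  haveI : Nontrivial (Subgroup.center Q) := hQ.center_nontrivial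
  obtain ⟨z, hz, hz1, hz2⟩ := PGroup.exists_mem_pow_eq_one hQ
    ((Subgroup.nontrivial_iff_ne_bot (Subgroup.center Q)).mp inferInstance)
  refine ⟨(z : G), ⟨z.2, Subgroup.mem_centralizer_iff.mpr fun y hy =>
    congrArg Subtype.val (Subgroup.mem_center_iff.mp hz ⟨y, hy⟩), ?_⟩, fun e => hz1 (Subtype.ext e)⟩
  rw [← SubmonoidClass.coe_pow, hz2]; rfl

/-- All involutions lie in `V`. -/
theorem Hyp.mem_of_sq (h : Hyp G) {x : G} (hx : x ^ 2 = 1) : x ∈ omegaSub G := by
  by_cases hx1 : x = 1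
  · exact hx1 ▸ one_mem _
  obtain ⟨t, ht, ht1⟩ := h.exists_mem_ne_one
  obtain ⟨c, hc⟩ := isConj_iff.mp (h.conj t x ht1 ht.2.2 hx1 hx)
  exact hc ▸ omegaSub_normal.conj_mem t ht c

theorem Hyp.trans' (h : Hyp G) (v w : omegaSub G) (hv : v ≠ 1) (hw : w ≠ 1) :
    ∃ g : G, act G g v = w := by
  obtain ⟨c, hc⟩ := isConj_iff.mp (h.conj (v : G) (w : G) (fun e => hv (Subtype.ext e)) v.2.2.2
    (fun e => hw (Subtype.ext e)) w.2.2.2)
  exact ⟨c, Subtype.ext (by simpa [MulAut.conjNormal_apply] using hc)⟩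

/-- A fixed-point-free element commutes with no nontrivial `2`-element. -/
theorem Hyp.eq_one_of_commute (h : Hyp G) {g : G} (hg : Fpf g) :
    ∀ (k : ℕ) (t : G), t ^ (2 ^ k) = 1 → g * t = t * g → t = 1 := by
  intro k
  induction k with
  | zero => intro t ht _; simpa using ht
  | succ k ih =>
    intro t ht hgt
    have h2 : t ^ 2 = 1 := ih (t ^ 2) (by rwa [← pow_mul, ← pow_succ'])
      (show Commute g (t ^ 2) from Commute.pow_right hgt 2)
    exact hg t (h.mem_of_sq h2) (by rw [hgt, mul_inv_cancel_right])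

/-- Fixed cosets of an invariant subgroup of coprime order contain fixed elements. -/
theorem exists_commute_in_coset {X : Type*} [Group X] [Finite X] (g x : X) (N : Subgroup X)
    (hg : g ∈ Subgroup.normalizer (N : Set X)) (hcop : (orderOf g).Coprime (Nat.card N))
    (hx : x⁻¹ * (g * x * g⁻¹) ∈ N) : ∃ n ∈ N, g * (x * n) = x * n * g := by
  let H : Subgroup X :=
    { carrier := {a | a ∈ Subgroup.normalizer (N : Set X) ∧ x⁻¹ * (a * x * a⁻¹) ∈ N}
      one_mem' := ⟨one_mem _, by simp⟩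
      mul_mem' := fun {a b} ha hb => ⟨mul_mem ha.1 hb.1, by
        have h1 := mul_mem ha.2 ((Subgroup.mem_normalizer_iff.mp ha.1 _).mp hb.2)
        have e : x⁻¹ * (a * x * a⁻¹) * (a * (x⁻¹ * (b * x * b⁻¹)) * a⁻¹) =
            x⁻¹ * (a * b * x * (a * b)⁻¹) := by group
        rwa [e] at h1⟩
      inv_mem' := fun {a} ha => ⟨inv_mem ha.1, by
        have h1 := (Subgroup.mem_normalizer_iff.mp (inv_mem ha.1) _).mp (inv_mem ha.2)
        have e : a⁻¹ * (x⁻¹ * (a * x * a⁻¹))⁻¹ * a⁻¹⁻¹ = x⁻¹ * (a⁻¹ * x * a⁻¹⁻¹) := by group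
        rwa [e] at h1⟩ }
  have hA : Subgroup.zpowers g ≤ H := Subgroup.zpowers_le.mpr ⟨hg, hx⟩
  obtain ⟨n, hn, hc⟩ := Coprime.exists_fixed_in_coset (Subgroup.zpowers g) N
    (fun a ha => (hA ha).1) (by rwa [Nat.card_zpowers])
    (Or.inl inferInstance) x (fun a ha => (hA ha).2)
  exact ⟨n, hn, Subgroup.mem_centralizer_iff.mp hc g (Subgroup.mem_zpowers g)⟩

end Cfsg.Agent.TwoLenInv
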