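import Mathlib

/-!
# Eigenvector orbits

An elementary abelian `2`-group `E` acts nontrivially on an abelian group `W` of odd prime exponent
`q`, and a further automorphism of `l`-power order normalizes the action, without fixed points on
`E`. Then some common eigenvector of `E` has an orbit containing `l` independent eigenvectors with
pairwise different signs.
-/

set_option autoImplicit false

namespace Cfsg.Agent.TwoLenInv

universe u v

section Eigen

variable {E : Type v} [CommGroup E] [Finite E] {W : Type u} [CommGroup W] [Finite W]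

/-- A common eigenvector with signs `±`. -/
def IsEigen (ρ : E →* MulAut W) (a : W) : Prop := ∀ e : E, ρ e a = a ∨ ρ e a = a⁻¹

theorem exists_eigen {q : ℕ} (hqodd : Odd q) (hW : ∀ a : W, a ^ q = 1) (hE : ∀ e : E, e ^ 2 = 1)
    (ρ : E →* MulAut W) (hρ : ∃ e w, ρ e w ≠ w) :
    ∃ a : W, IsEigen ρ a ∧ ∃ e, ρ e a ≠ a := by
  classical
  have hinv : ∀ a : W, a = a⁻¹ → a = 1 := fun a ha => by
    have h2 : a ^ 2 = 1 := by rw [sq]; nth_rewrite 2 [ha]; exact mul_inv_cancel a
    obtain ⟨r, hr⟩ := hqodd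
    have := hW a
    rwa [hr, pow_succ, pow_mul, h2, one_pow, one_mul] at this
  have h22 : ∀ e w, ρ e (ρ e w) = w := fun e w => by
    rw [← MulAut.mul_apply, ← map_mul, ← sq, hE, map_one]; rfl
  have hcomm : ∀ e f w, ρ e (ρ f w) = ρ f (ρ e w) := fun e f w => by
    rw [← MulAut.mul_apply, ← map_mul, mul_comm, map_mul, MulAut.mul_apply]
  haveI := Fintype.ofFinite E
  obtain ⟨e₀, w, hw⟩ := hρ
  -- `e₀` inverts `w⁻¹ * ρ e₀ w`
  have key : ∀ s : Finset E, ∃ a : W, ρ e₀ a = a⁻¹ ∧ a ≠ 1 ∧ ∀ e ∈ s, ρ e a = a ∨ ρ e a = a⁻¹ := by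
    intro s
    induction s using Finset.induction with
    | empty =>
      refine ⟨w⁻¹ * ρ e₀ w, ?_, fun h => hw (inv_mul_eq_one.mp h).symm, by simp⟩
      rw [map_mul, map_inv, h22, mul_inv_rev, inv_inv, mul_comm]
    | insert f s _ ih =>
      obtain ⟨a, ha, ha1, has⟩ := ih
      by_cases hfa : ρ f a = a
      · exact ⟨a, ha, ha1, by simpa [Finset.forall_mem_insert, hfa] using has⟩
      · refine ⟨a⁻¹ * ρ f a, ?_, fun h => hfa (inv_mul_eq_one.mp h).symm, ?_⟩
        · rw [map_mul, map_inv, hcomm, ha, map_inv, inv_inv, mul_inv_rev, inv_inv, mul_comm]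
        · intro e he
          rcases Finset.mem_insert.mp he with rfl | he
          · right
            rw [map_mul, map_inv, h22, mul_inv_rev, inv_inv, mul_comm]
          · rcases has e he with h | h
            · left
              rw [map_mul, map_inv, hcomm, h]
            · right
              rw [map_mul, map_inv, hcomm, h, map_inv, inv_inv, mul_inv_rev, inv_inv, mul_comm]
  obtain ⟨a, ha, ha1, has⟩ := key Finset.univ
  exact ⟨a, fun e => has e (Finset.mem_univ e), e₀, fun h => ha1 (hinv a (h.symm.trans ha))⟩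

/-- Eigenvectors with pairwise different signs are independent. -/
theorem independent_of_eigen {q : ℕ} [Fact q.Prime] (hq2 : q ≠ 2) (hW : ∀ a : W, a ^ q = 1)
    (ρ : E →* MulAut W) {ι : Type*} [Fintype ι] (f : ι → W) (hf : ∀ i, IsEigen ρ (f i))
    (hf1 : ∀ i, f i ≠ 1) (hd : ∀ i j, i ≠ j → ∃ e, ¬ (ρ e (f i) = f i ↔ ρ e (f j) = f j))
    (c : ι → ZMod q) (hc : ∏ i, f i ^ (c i).val = 1) : c = 0 := by
  classical
  have hord : ∀ i, orderOf (f i) = q := fun i => orderOf_eq_prime (hW _) (hf1 i)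
  have key : ∀ n, ∀ s : Finset ι, s.card = n → ∀ k : ι → ℕ,
      ∏ i ∈ s, f i ^ k i = 1 → ∀ i ∈ s, q ∣ k i := by
    intro n
    induction n using Nat.strong_induction_on with
    | _ n ih =>
    intro s hs k hk i hi
    by_cases hj : ∃ j ∈ s, j ≠ i
    swap
    · push Not at hj
      rw [Finset.eq_singleton_iff_unique_mem.mpr ⟨hi, hj⟩, Finset.prod_singleton] at hk
      exact hord i ▸ orderOf_dvd_of_pow_eq_one hk
    · obtain ⟨j, hjs, hji⟩ := hj
      obtain ⟨e, he⟩ := hd j i hji
      let P : ι → Prop := fun t => ρ e (f t) = f t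
      have hsplit : ∀ (S : Finset ι), ρ e (∏ t ∈ S, f t ^ k t) =
          (∏ t ∈ S.filter P, f t ^ k t) * (∏ t ∈ S.filter (fun t => ¬ P t), f t ^ k t)⁻¹ := by
        intro S
        rw [map_prod, ← Finset.prod_filter_mul_prod_filter_not S P, ← Finset.prod_inv_distrib]
        congr 1
        · exact Finset.prod_congr rfl fun t ht => by
            rw [map_pow, (Finset.mem_filter.mp ht).2]
        · exact Finset.prod_congr rfl fun t ht => by
            rw [map_pow, (hf t e).resolve_left (Finset.mem_filter.mp ht).2, inv_pow]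
      have h1 := hsplit s
      rw [hk, map_one] at h1
      rw [← Finset.prod_filter_mul_prod_filter_not s P] at hk
      set A := ∏ t ∈ s.filter P, f t ^ k t
      set B := ∏ t ∈ s.filter (fun t => ¬ P t), f t ^ k t
      have hAB : A = B := mul_inv_eq_one.mp h1.symm
      have hA : A = 1 := by
        rw [← hAB] at hk
        obtain ⟨r, hr⟩ := (Fact.out (p := q.Prime)).odd_of_ne_two hq2
        have := hW A
        rwa [hr, pow_succ, pow_mul, sq, hk, one_pow, one_mul] at this
      by_cases hiP : P i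
      · refine ih _ ?_ _ rfl k hA i (Finset.mem_filter.mpr ⟨hi, hiP⟩)
        rw [← hs]
        exact Finset.card_lt_card (Finset.filter_ssubset.mpr ⟨j, hjs, fun h => he (iff_of_true h hiP)⟩)
      · refine ih _ ?_ _ rfl k (hAB ▸ hA) i (Finset.mem_filter.mpr ⟨hi, hiP⟩)
        rw [← hs]
        exact Finset.card_lt_card (Finset.filter_ssubset.mpr
          ⟨j, hjs, fun h => he (iff_of_false h hiP)⟩)
  funext i
  have := key _ Finset.univ rfl (fun i => (c i).val) hc i (Finset.mem_univ i)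
  rw [Pi.zero_apply, ← ZMod.natCast_zmod_val (c i), ZMod.natCast_eq_zero_iff]
  exact this

/-- **The orbit of eigenvectors.** -/
theorem exists_eigen_orbit {q l : ℕ} [Fact q.Prime] (hq2 : q ≠ 2) (hl : l.Prime)
    (hW : ∀ a : W, a ^ q = 1) (hE : ∀ e : E, e ^ 2 = 1) (ρ : E →* MulAut W)
    (hρ : ∃ e w, ρ e w ≠ w) (σ : MulAut W) (τ : MulAut E) (hστ : ∀ e, σ * ρ e = ρ (τ e) * σ)
    (k : ℕ) (hσk : σ ^ (l ^ k) = 1) (hτk : τ ^ (l ^ k) = 1) (hτ : ∀ e, τ e = e → e = 1) :
    ∃ f : Fin l → W, (∀ i, IsEigen ρ (f i)) ∧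
      (∀ i j, i ≠ j → ∃ e, ¬ (ρ e (f i) = f i ↔ ρ e (f j) = f j)) ∧
      ∀ c : Fin l → ZMod q, ∏ i, f i ^ (c i).val = 1 → c = 0 := by
  obtain ⟨a, ha, e₀, he₀⟩ :=
    exists_eigen ((Fact.out (p := q.Prime)).odd_of_ne_two hq2) hW hE ρ hρ
  have hconj : ∀ (i : ℕ) (e : E) (w : W), (σ ^ i) (ρ e w) = ρ ((τ ^ i) e) ((σ ^ i) w) := by
    intro i
    induction i with
    | zero => simp
    | succ i ih =>
      intro e w
      rw [pow_succ', pow_succ', MulAut.mul_apply, ih, MulAut.mul_apply, MulAut.mul_apply,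
        show σ (ρ ((τ ^ i) e) ((σ ^ i) w)) = (σ * ρ ((τ ^ i) e)) ((σ ^ i) w) from rfl, hστ, MulAut.mul_apply]
  have heig : ∀ i : ℕ, IsEigen ρ ((σ ^ i) a) := fun i e => by
    obtain ⟨e, rfl⟩ := (τ ^ i).surjective e
    rw [← hconj]
    rcases ha e with h | h
    · exact Or.inl (congrArg (σ ^ i) h)
    · exact Or.inr ((congrArg (σ ^ i) h).trans (map_inv _ _))
  have hne : ∀ i : ℕ, (σ ^ i) a ≠ 1 := fun i h => by
    refine he₀ ?_
    rw [(σ ^ i).injective (h.trans (map_one _).symm), map_one]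
  -- signs
  let sgn : ℕ → E → Prop := fun i e => ρ e ((σ ^ i) a) = (σ ^ i) a
  have hsg : ∀ i d e, sgn (i + d) ((τ ^ i) e) ↔ sgn d e := fun i d e => by
    show ρ _ _ = _ ↔ _
    rw [pow_add, MulAut.mul_apply, ← hconj]
    exact (σ ^ i).injective.eq_iff
  have hdist : ∀ d, 0 < d → d < l → ¬ ∀ e, sgn 0 e ↔ sgn d e := by
    intro d hd0 hdl hall
    have hd' : ∀ e, sgn 0 ((τ ^ d) e) ↔ sgn 0 e := fun e => by
      rw [hall ((τ ^ d) e)]; exact hsg d 0 e
    have hcop : Nat.Coprime d (orderOf τ) := by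
      refine Nat.Coprime.coprime_dvd_right (orderOf_dvd_of_pow_eq_one hτk) (Nat.Coprime.pow_right _ ?_)
      exact ((hl.coprime_iff_not_dvd).mpr fun h => by have := Nat.le_of_dvd hd0 h; omega).symm
    obtain ⟨m, hm⟩ := exists_pow_eq_self_of_coprime hcop
    have hτ1 : ∀ e, sgn 0 (τ e) ↔ sgn 0 e := by
      have : ∀ (m : ℕ) e, sgn 0 (((τ ^ d) ^ m) e) ↔ sgn 0 e := by
        intro m
        induction m with
        | zero => simp
        | succ m ih => intro e; rw [pow_succ', MulAut.mul_apply, hd', ih]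
      intro e
      simpa only [hm] using this m e
    let ψ : E →* E := (τ : E ≃* E).toMonoidHom * MonoidHom.id E
    have hinv : ∀ e : E, e⁻¹ = e := fun e => inv_eq_of_mul_eq_one_right (by rw [← sq]; exact hE e)
    have hψ : Function.Surjective ψ := Finite.injective_iff_surjective.mp <| by
      rw [injective_iff_map_eq_one]
      intro e he
      exact hτ e ((eq_inv_of_mul_eq_one_left he).trans (hinv e))
    obtain ⟨e, he⟩ := hψ e₀
    refine he₀ ?_
    rw [← he]
    show ρ (τ e * e) a = a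
    rw [map_mul, MulAut.mul_apply]
    have h1 := hτ1 e
    simp only [sgn, pow_zero, MulAut.one_apply] at h1
    rcases ha e with h | h
    · rw [h, h1.mpr h]
    · rw [h, map_inv]
      rcases ha (τ e) with h' | h'
      · rw [h', ← h, h1.mp h']
      · rw [h', inv_inv]
  have hd : ∀ i j : Fin l, i ≠ j → ∃ e, ¬ (sgn i e ↔ sgn j e) := by
    intro i j hij
    by_contra hcon
    push Not at hcon
    rcases Nat.lt_or_gt_of_ne (Fin.val_ne_of_ne hij) with h | h
    · refine hdist ((j : ℕ) - i) (by omega) (by omega) fun e => ?_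
      have := hcon ((τ ^ (i : ℕ)) e)
      rw [show (j : ℕ) = i + ((j : ℕ) - i) by omega, hsg] at this
      nth_rewrite 1 [show (i : ℕ) = i + 0 by omega] at this
      rwa [hsg] at this
    · refine hdist ((i : ℕ) - j) (by omega) (by omega) fun e => ?_
      have := hcon ((τ ^ (j : ℕ)) e)
      rw [show (i : ℕ) = j + ((i : ℕ) - j) by omega, hsg] at this
      nth_rewrite 2 [show (j : ℕ) = j + 0 by omega] at this
      rw [hsg] at this
      exact this.symm
  exact ⟨fun i => (σ ^ (i : ℕ)) a, fun i => heig i, hd,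
    fun c hc => independent_of_eigen hq2 hW ρ (fun i : Fin l => (σ ^ (i : ℕ)) a) (fun i => heig i) (fun i => hne i) hd c hc⟩

end Eigen

end Cfsg.Agent.TwoLenInv
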