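import Cfsg.Agent.TwoLenInv.Basic

/-!
# Fixed-point-free elements
-/

set_option autoImplicit false

namespace Cfsg.Agent.TwoLenInv

variable {G : Type*} [Group G] [Finite G]

omit [Finite G] in
theorem omegaSub_sq (v : omegaSub G) : v ^ 2 = 1 := Subtype.ext v.2.2.2

omit [Finite G] in
theorem omegaSub_comm (v w : omegaSub G) : v * w = w * v :=
  Subtype.ext (Subgroup.mem_centralizer_iff.mp w.2.2.1 v v.2.1)

theorem Hyp.card_omegaSub (h : Hyp G) : ∃ d : ℕ, 2 ≤ d ∧ Nat.card (omegaSub G) = 2 ^ d := by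
  haveI := Fact.mk Nat.prime_two
  have hp : IsPGroup 2 (omegaSub G) := fun v => ⟨1, by rw [pow_one]; exact omegaSub_sq v⟩
  obtain ⟨d, hd⟩ := IsPGroup.iff_card.mp hp
  refine ⟨d, ?_, hd⟩
  obtain ⟨x, y, hxy, hx1, hx, hy1, hy⟩ := h.two
  let f : Fin 3 → omegaSub G := ![1, ⟨x, h.mem_of_sq hx⟩, ⟨y, h.mem_of_sq hy⟩]
  have hf : Function.Injective f := by
    intro i j hij
    have hij' := congrArg (fun t : omegaSub G => (t : G)) hij
    fin_cases i <;> fin_cases j <;>
      first
        | rfl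
        | (simp [f, hx1, hx1.symm, hy1, hy1.symm, hxy, hxy.symm] at hij')
  have := Nat.card_le_card_of_injective f hf
  rw [Nat.card_eq_fintype_card, Fintype.card_fin, hd] at this
  by_contra hlt
  have : 2 ^ d ≤ 2 ^ 1 := Nat.pow_le_pow_right two_pos (by omega)
  omega

/-- A normal fixed-point-free elementary abelian subgroup of the group induced on `V`. -/
theorem Hyp.exists_fpf_normal (h : Hyp G) :
    ∃ (l : ℕ) (A : Subgroup (MulAut (omegaSub G))), l.Prime ∧ l ≠ 2 ∧ A ≠ ⊥ ∧ A ≤ (act G).range ∧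
      (∀ g, ∀ a ∈ A, act G g * a * (act G g)⁻¹ ∈ A) ∧ (∀ a ∈ A, a ^ l = 1) ∧
      (∀ a ∈ A, ∀ b ∈ A, a * b = b * a) ∧
      ∀ a ∈ A, a ≠ 1 → ∀ v, a v = v → v = 1 := by
  classical
  haveI := h.sol
  set H := (act G).range
  haveI : Group.IsSolvable H :=
    Group.isSolvable_of_surjective (f := (act G).rangeRestrict) (act G).rangeRestrict_surjective
  haveI : Nontrivial H := by
    obtain ⟨x, y, hxy, hx1, hx, hy1, hy⟩ := h.two
    obtain ⟨g, hg⟩ := h.trans' ⟨x, h.mem_of_sq hx⟩ ⟨y, h.mem_of_sq hy⟩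
      (fun e => hx1 (congrArg Subtype.val e)) (fun e => hy1 (congrArg Subtype.val e))
    refine ⟨⟨⟨act G g, g, rfl⟩, 1, fun e => ?_⟩⟩
    rw [show act G g = 1 from congrArg Subtype.val e] at hg
    exact hxy (congrArg Subtype.val hg)
  obtain ⟨M, hM⟩ := Fitting.exists_isMinNormal (G := H)
  obtain ⟨l, hl, hMab, hMexp⟩ := hM.exists_isElementaryAbelian_of_isSolvable
  haveI := hM.1
  set A := M.map H.subtype with hA
  have hAH : A ≤ H := Subgroup.map_subtype_le M
  have hnorm : ∀ g, ∀ a ∈ A, act G g * a * (act G g)⁻¹ ∈ A := by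
    rintro g _ ⟨m, hm, rfl⟩
    exact ⟨⟨act G g, g, rfl⟩ * m * ⟨act G g, g, rfl⟩⁻¹, hM.1.conj_mem m hm _, rfl⟩
  have hexp : ∀ a ∈ A, a ^ l = 1 := by
    rintro _ ⟨m, hm, rfl⟩
    rw [← map_pow, hMexp m hm, map_one]
  have hcomm : ∀ a ∈ A, ∀ b ∈ A, a * b = b * a := by
    rintro _ ⟨m, hm, rfl⟩ _ ⟨n, hn, rfl⟩
    rw [← map_mul, ← map_mul]
    exact congrArg _ (congrArg Subtype.val (hMab.is_comm.comm ⟨m, hm⟩ ⟨n, hn⟩))
  have hAne : A ≠ ⊥ := fun e => hM.2.1 ((Subgroup.map_eq_bot_iff_of_injective M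
    H.subtype_injective).mp e)
  -- the fixed points of `A`
  have hfixall : ∀ v : omegaSub G, v ≠ 1 → ¬ ∀ a ∈ A, a v = v := by
    intro v hv hfix
    refine hAne (le_bot_iff.mp fun a ha => Subgroup.mem_bot.mpr (MulEquiv.ext fun w => ?_))
    by_cases hw : w = 1
    · rw [hw, map_one]; rfl
    · obtain ⟨g, rfl⟩ := h.trans' v w hv hw
      have h2 := hfix _ (hnorm g⁻¹ a ha)
      rw [map_inv, inv_inv, MulAut.mul_apply, MulAut.mul_apply] at h2
      have h3 := congrArg (act G g) h2
      rwa [← MulAut.mul_apply, mul_inv_cancel, MulAut.one_apply] at h3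
  have hl2 : l ≠ 2 := by
    rintro rfl
    haveI := Fact.mk Nat.prime_two
    obtain ⟨d, hd, hcard⟩ := h.card_omegaSub
    have hp : IsPGroup 2 A := fun a => ⟨1, Subtype.ext (by simpa using hexp a a.2)⟩
    obtain ⟨v, hv, hv1⟩ := hp.exists_fixed_point_of_prime_dvd_card_of_fixed_point (omegaSub G)
      (by rw [hcard]; exact dvd_pow_self 2 (by omega)) (a := 1) (fun a => smul_one a)
    exact hfixall v (fun e => hv1 e.symm) (fun a ha => hv ⟨a, ha⟩)
  haveI := Fact.mk hl
  refine ⟨l, A, hl, hl2, hAne, hAH, hnorm, hexp, hcomm, fun a ha ha1 v hav => ?_⟩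
  by_contra hv
  letI : CommGroup (omegaSub G) := { (inferInstance : Group (omegaSub G)) with mul_comm := omegaSub_comm }
  have hV2 := omegaSub_sq (G := G)
  obtain ⟨u, hu⟩ : ∃ u, a u ≠ u := by
    by_contra h'
    push Not at h'
    exact ha1 (MulEquiv.ext h')
  let π : omegaSub G →* omegaSub G :=
    { toFun := fun z => ∏ i ∈ Finset.range l, (a ^ i) z
      map_one' := by simp
      map_mul' := fun y z => by simp [Finset.prod_mul_distrib] }
  have hodd : Odd l := hl.odd_of_ne_two hl2
  have hπv : π v = v := by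
    show (∏ i ∈ Finset.range l, (a ^ i) v) = v
    rw [Finset.prod_congr rfl fun i _ => pow_mulAut_fix a v hav i, Finset.prod_const,
      Finset.card_range]
    obtain ⟨r, hr⟩ := hodd
    rw [hr, pow_succ, pow_mul, hV2, one_pow, one_mul]
  set w := a u * u⁻¹ with hw
  have hπw : π w = 1 := by
    rw [hw, map_mul, map_inv, mul_inv_eq_one]
    show (∏ i ∈ Finset.range l, (a ^ i) (a u)) = ∏ i ∈ Finset.range l, (a ^ i) u
    obtain ⟨m, hm⟩ : ∃ m, l = m + 1 := ⟨l - 1, (Nat.sub_add_cancel hl.pos).symm⟩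
    rw [hm, Finset.prod_range_succ, Finset.prod_range_succ', pow_zero, MulAut.one_apply,
      ← MulAut.mul_apply, ← pow_succ, ← hm, hexp a ha, MulAut.one_apply]
    rfl
  have hw1 : w ≠ 1 := fun e => hu (mul_inv_eq_one.mp e)
  have haw : a w ≠ w := fun e => by
    have h1 : π w = w := by
      show (∏ i ∈ Finset.range l, (a ^ i) w) = w
      rw [Finset.prod_congr rfl fun i _ => pow_mulAut_fix a w e i, Finset.prod_const,
        Finset.card_range]
      obtain ⟨r, hr⟩ := hodd
      rw [hr, pow_succ, pow_mul, hV2, one_pow, one_mul]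
    exact hw1 (h1.symm.trans hπw)
  have hπcomm : ∀ b ∈ A, ∀ z, π (b z) = b (π z) := fun b hb z => by
    show (∏ i ∈ Finset.range l, (a ^ i) (b z)) = b (∏ i ∈ Finset.range l, (a ^ i) z)
    rw [map_prod]
    refine Finset.prod_congr rfl fun i _ => ?_
    rw [← MulAut.mul_apply, hcomm _ (pow_mem ha i) b hb, MulAut.mul_apply]
  have hvw : v * w ≠ 1 := fun e => haw (by
    have h2 : w = v⁻¹ := eq_inv_of_mul_eq_one_right e
    rw [h2, map_inv, hav])
  -- stabilizers are conjugate
  obtain ⟨g, hg⟩ := h.trans' v (v * w) hv hvw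
  let S : omegaSub G → Set (MulAut (omegaSub G)) := fun z => {b | b ∈ A ∧ b z = z}
  have hsub : S (v * w) ⊂ S v := by
    refine (Set.ssubset_iff_of_subset ?_).mpr ⟨a, ⟨ha, hav⟩, fun h' => ?_⟩
    · intro b hb
      refine ⟨hb.1, ?_⟩
      have h1 := congrArg π hb.2
      rwa [hπcomm b hb.1, map_mul, hπv, hπw, mul_one] at h1
    · have h1 := h'.2
      rw [map_mul, hav] at h1
      exact haw (mul_left_cancel h1)
  have hinj : Set.InjOn (fun b => act G g * b * (act G g)⁻¹) (S v) := fun b _ c _ e =>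
    mul_left_cancel (mul_right_cancel e)
  have hmaps : ∀ b ∈ S v, act G g * b * (act G g)⁻¹ ∈ S (v * w) := fun b hb =>
    ⟨hnorm g b hb.1, by
      show act G g (b ((act G g)⁻¹ (v * w))) = v * w
      rw [← hg, show (act G g)⁻¹ (act G g v) = v from (act G g).symm_apply_apply v, hb.2]⟩
  exact absurd (Set.ncard_le_ncard_of_injOn _ hmaps hinj (Set.toFinite _))
    (not_le.mpr (Set.ncard_lt_ncard hsub (Set.toFinite _)))

/-- A fixed-point-free element of prime order exceeding the rank of `V`. -/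
theorem Hyp.exists_large (h : Hyp G) :
    ∃ (c : G) (l d : ℕ), l.Prime ∧ d < l ∧ Nat.card (omegaSub G) = 2 ^ d ∧
      orderOf (act G c) = l ∧ Fpf c := by
  classical
  obtain ⟨d, hd, hcard⟩ := h.card_omegaSub
  set H := (act G).range
  -- every prime divisor of `2 ^ d - 1` divides the order of the induced group
  have hdvd : 2 ^ d - 1 ∣ Nat.card H := by
    obtain ⟨x, y, -, hx1, hx, -, -⟩ := h.two
    let v₀ : omegaSub G := ⟨x, h.mem_of_sq hx⟩
    have hv₀ : v₀ ≠ 1 := fun e => hx1 (congrArg Subtype.val e)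
    have horb : MulAction.orbit H v₀ = {1}ᶜ := by
      ext w
      constructor
      · intro hw hw1
        obtain ⟨b, hb⟩ := hw
        rw [Set.mem_singleton_iff] at hw1
        exact hv₀ ((b : MulAut (omegaSub G)).injective (hb.trans (hw1.trans (map_one _).symm)))
      · intro hw
        obtain ⟨g, hg⟩ := h.trans' v₀ w hv₀ hw
        exact ⟨⟨act G g, g, rfl⟩, hg⟩
    have h1 : Nat.card (MulAction.orbit H v₀) = 2 ^ d - 1 := by
      rw [horb, Nat.card_coe_set_eq, Set.ncard_compl, Set.ncard_singleton, hcard]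
    rw [← h1, ← Nat.card_congr (MulAction.orbitEquivQuotientStabilizer H v₀).symm]
    exact Subgroup.card_quotient_dvd_card _
  -- fixed points of an element of prime order
  have hfix : ∀ (b : MulAut (omegaSub G)) (r : ℕ), r.Prime → b ^ r = 1 →
      ∀ F : Subgroup (omegaSub G), (∀ v ∈ F, b v ∈ F) →
        Nat.card F ≡ Nat.card {v : F // b v = v} [MOD r] := by
    intro b r hr hbr F hF
    haveI := Fact.mk hr
    have hp : IsPGroup r (Subgroup.zpowers b) := fun z => ⟨1, Subtype.ext (by
      obtain ⟨n, hn⟩ := Subgroup.mem_zpowers_iff.mp z.2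
      rw [pow_one, SubmonoidClass.coe_pow, ← hn, ← zpow_natCast, ← zpow_mul, mul_comm, zpow_mul,
        zpow_natCast, hbr, one_zpow]; rfl)⟩
    have hmem : ∀ z : Subgroup.zpowers b, ∀ v ∈ F, (z : MulAut (omegaSub G)) v ∈ F := by
      intro z v hv
      obtain ⟨n, hn⟩ := (mem_powers_iff_mem_zpowers (x := b)).mpr z.2
      rw [← hn]
      clear hn
      induction n with
      | zero => simpa using hv
      | succ n ih =>
        show (b ^ (n + 1)) v ∈ F
        rw [pow_succ', MulAut.mul_apply]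
        exact hF _ ih
    letI : MulAction (Subgroup.zpowers b) F :=
      { smul := fun z v => ⟨(z : MulAut (omegaSub G)) v, hmem z v v.2⟩
        one_smul := fun v => rfl
        mul_smul := fun y z v => rfl }
    refine (hp.card_modEq_card_fixedPoints F).trans (congrArg (fun t => t % r) (Nat.card_congr
      (Equiv.subtypeEquivRight fun v => ⟨fun hv => ?_, fun hv z => ?_⟩)))
    · exact congrArg Subtype.val (hv ⟨b, Subgroup.mem_zpowers b⟩)
    · obtain ⟨n, hn⟩ := (mem_powers_iff_mem_zpowers (x := b)).mpr z.2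
      refine Subtype.ext ?_
      show (z : MulAut (omegaSub G)) v = v
      rw [← hn]
      exact pow_mulAut_fix b _ hv n
  let Fix : MulAut (omegaSub G) → Subgroup (omegaSub G) := fun b =>
    { carrier := {v | b v = v}
      one_mem' := map_one b
      mul_mem' := fun {x y} hx hy => show b (x * y) = x * y by rw [map_mul, hx, hy]
      inv_mem' := fun {x} hx => show b x⁻¹ = x⁻¹ by rw [map_inv, hx] }
  have hfixtop : ∀ (b : MulAut (omegaSub G)) (r : ℕ), r.Prime → b ^ r = 1 →
      2 ^ d ≡ Nat.card (Fix b) [MOD r] := by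
    intro b r hr hbr
    have h1 := hfix b r hr hbr ⊤ (fun v _ => Subgroup.mem_top _)
    rw [Subgroup.card_top, hcard] at h1
    refine h1.trans (congrArg (fun t => t % r) (Nat.card_congr ?_))
    exact ⟨fun v => ⟨v.1, v.2⟩, fun v => ⟨⟨v.1, Subgroup.mem_top _⟩, v.2⟩, fun v => rfl, fun v => rfl⟩
  have hpow : ∀ (b : MulAut (omegaSub G)), ∃ j ≤ d, Nat.card (Fix b) = 2 ^ j :=
    fun b => (Nat.dvd_prime_pow Nat.prime_two).mp (hcard ▸ Subgroup.card_subgroup_dvd_card _)
  have fin : ∀ (c : G), (∀ v, act G c v = v → v = 1) → Fpf c := fun c hc => fpf_iff.mpr hc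
  have cauchy : ∀ r : ℕ, r.Prime → r ∣ 2 ^ d - 1 → ∃ c : G, orderOf (act G c) = r := by
    intro r hr hrd
    haveI := Fact.mk hr
    obtain ⟨⟨_, c, rfl⟩, hc⟩ := exists_prime_orderOf_dvd_card' r (hrd.trans hdvd)
    exact ⟨c, by rwa [← Subgroup.orderOf_coe] at hc⟩
  have trivFix : ∀ b, Nat.card (Fix b) = 1 → ∀ v, b v = v → v = 1 := fun b hb v hv =>
    Subgroup.mem_bot.mp (Subgroup.eq_bot_of_card_eq _ hb ▸ hv)
  by_cases hd6 : d = 6
  · subst hd6
    obtain ⟨l, A, hl, hl2, hAne, hAH, hnorm, hexp, hcomm, hfpf⟩ := h.exists_fpf_normal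
    obtain ⟨a, haA, ha1⟩ := A.bot_or_exists_ne_one.resolve_left hAne
    have hla : l ∣ 2 ^ 6 - 1 := by
      have h1 := hfixtop a l hl (hexp a haA)
      rw [show Nat.card (Fix a) = 1 from Subgroup.card_eq_one.mpr
        (le_bot_iff.mp fun v hv => Subgroup.mem_bot.mpr (hfpf a haA ha1 v hv))] at h1
      exact (Nat.modEq_iff_dvd' (by norm_num)).mp h1.symm
    have hl37 : l = 3 ∨ l = 7 := by
      rw [show (2 : ℕ) ^ 6 - 1 = 3 * 3 * 7 by norm_num] at hla
      have h3 : Nat.Prime 3 := by norm_num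
      rcases hl.dvd_mul.mp hla with h' | h'
      · rcases hl.dvd_mul.mp h' with h'' | h'' <;>
          exact Or.inl ((Nat.prime_dvd_prime_iff_eq hl h3).mp h'')
      · exact Or.inr ((Nat.prime_dvd_prime_iff_eq hl (by norm_num)).mp h')
    rcases hl37 with rfl | rfl
    swap
    · haveI := Fact.mk hl
      obtain ⟨c, hc⟩ := hAH haA
      exact ⟨c, 7, 6, hl, by norm_num, hcard, hc ▸ orderOf_eq_prime (hexp a haA) ha1,
        fin c fun v hv => hfpf a haA ha1 v (hc ▸ hv)⟩
    · obtain ⟨c, hc⟩ := cauchy 7 (by norm_num) (by norm_num)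
      have hc7 : act G c ^ 7 = 1 := hc ▸ pow_orderOf_eq_one _
      refine ⟨c, 7, 6, by norm_num, by norm_num, hcard, hc, fin c (trivFix _ ?_)⟩
      obtain ⟨j, hj, hcj⟩ := hpow (act G c)
      have h7 := hfixtop _ 7 (by norm_num) hc7
      rw [hcj] at h7
      have hj6 : j ≠ 6 := by
        rintro rfl
        have htop : Fix (act G c) = ⊤ := Subgroup.eq_top_of_card_eq _ (hcj.trans hcard.symm)
        have h1 : act G c = 1 := MulEquiv.ext fun v => (htop.ge (Subgroup.mem_top v) : _)
        rw [h1, orderOf_one] at hc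
        omega
      -- some element of `A` commutes with `act G c`
      obtain ⟨b, hbA, hb1, hbc⟩ : ∃ b ∈ A, b ≠ 1 ∧ act G c * b = b * act G c := by
        have h3 : IsPGroup 3 A := fun z => ⟨1, Subtype.ext (by simpa using hexp z z.2)⟩
        haveI := Fact.mk (show Nat.Prime 3 by norm_num)
        haveI := Fact.mk (show Nat.Prime 7 by norm_num)
        obtain ⟨k, hk⟩ := IsPGroup.iff_card.mp h3
        obtain ⟨x₀, -, -, hx₀, hx₀', -⟩ := h.two
        have hle : Nat.card A ≤ 2 ^ 6 := by
          rw [← hcard]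
          refine Nat.card_le_card_of_injective (fun z : A =>
            (z : MulAut (omegaSub G)) ⟨x₀, h.mem_of_sq hx₀'⟩) fun y z hyz => ?_
          by_contra hne
          have h1 := hfpf _ (mul_mem (inv_mem z.2) y.2) (fun e => hne (Subtype.ext
            (inv_mul_eq_one.mp e).symm)) ⟨x₀, h.mem_of_sq hx₀'⟩ (by
            rw [MulAut.mul_apply]
            exact (congrArg (z : MulAut (omegaSub G)).symm hyz).trans
              ((z : MulAut (omegaSub G)).symm_apply_apply _))
          exact hx₀ (congrArg Subtype.val h1)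
        have hk0 : k ≠ 0 := by
          rintro rfl
          exact hAne (Subgroup.eq_bot_of_card_eq _ hk)
        let cA : MulAut A :=
          { toFun := fun z => ⟨act G c * z * (act G c)⁻¹, hnorm c z z.2⟩
            invFun := fun z => ⟨(act G c)⁻¹ * z * act G c, by
              have := hnorm c⁻¹ z z.2
              rwa [map_inv, inv_inv] at this⟩
            left_inv := fun z => Subtype.ext (by simp [mul_assoc])
            right_inv := fun z => Subtype.ext (by simp [mul_assoc])
            map_mul' := fun y z => Subtype.ext (by simp [mul_assoc]) }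
        have hcA : ∀ n : ℕ, ∀ z : A, (((cA ^ n) z : A) : MulAut (omegaSub G)) =
            act G c ^ n * z * (act G c ^ n)⁻¹ := by
          intro n
          induction n with
          | zero => simp
          | succ n ih =>
            intro z
            rw [pow_succ' cA, MulAut.mul_apply]
            show act G c * ((cA ^ n) z : A) * (act G c)⁻¹ = _
            rw [ih, pow_succ']
            group
        have hp : IsPGroup 7 (Subgroup.zpowers cA) := fun z => ⟨1, Subtype.ext (by
          obtain ⟨n, hn⟩ := Subgroup.mem_zpowers_iff.mp z.2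
          have h1 : cA ^ 7 = 1 := MulEquiv.ext fun y => Subtype.ext (by
            rw [hcA, hc7, inv_one, one_mul, mul_one]; rfl)
          rw [pow_one, SubmonoidClass.coe_pow, ← hn, ← zpow_natCast, ← zpow_mul, mul_comm, zpow_mul,
            zpow_natCast, h1, one_zpow]; rfl)⟩
        have hk3 : k < 4 := by
          by_contra hk4
          have : 3 ^ 4 ≤ 3 ^ k := Nat.pow_le_pow_right (by norm_num) (by omega)
          omega
        obtain ⟨z, hz, hz1⟩ : ∃ z : A, z ∈ MulAction.fixedPoints (Subgroup.zpowers cA) A ∧ z ≠ 1 := by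
          by_contra hno
          push Not at hno
          have h1 := hp.card_modEq_card_fixedPoints A
          have h2 : Nat.card (MulAction.fixedPoints (Subgroup.zpowers cA) A) = 1 := by
            rw [Nat.card_eq_one_iff_unique]
            exact ⟨⟨fun y z => Subtype.ext ((hno y y.2).trans (hno z z.2).symm)⟩,
              ⟨⟨1, fun y => map_one (y : MulAut A)⟩⟩⟩
          rw [h2, hk] at h1
          interval_cases k <;> simp [Nat.ModEq] at h1 hk0
        refine ⟨z, z.2, fun e => hz1 (Subtype.ext e), ?_⟩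
        have h2 := congrArg Subtype.val (hz ⟨cA, Subgroup.mem_zpowers cA⟩)
        exact mul_inv_eq_iff_eq_mul.mp h2
      have h3 := hfix b 3 (by norm_num) (hexp b hbA) (Fix (act G c)) (fun v hv => by
        show act G c (b v) = b v
        rw [← MulAut.mul_apply, hbc, MulAut.mul_apply, show act G c v = v from hv])
      rw [show Nat.card {v : Fix (act G c) // b v = v} = 1 by
        rw [Nat.card_eq_one_iff_unique]
        exact ⟨⟨fun y z => Subtype.ext (Subtype.ext ((hfpf b hbA hb1 _ y.2).trans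
          (hfpf b hbA hb1 _ z.2).symm))⟩, ⟨⟨1, map_one b⟩⟩⟩, hcj] at h3
      have hj0 : j = 0 := by
        clear * - h3 h7 hj hj6
        revert h3 h7 hj6
        interval_cases j <;> decide
      rw [hcj, hj0, pow_zero]
  · obtain ⟨r, hr⟩ := NumberTheory.exists_isPrimitivePrimeDivisor (a := 2) (n := d) (by norm_num)
      (by omega) (fun hh => hd6 hh.2) (by
        rintro ⟨-, m, hm⟩
        rcases m with _ | _ | m
        · simp at hm
        · simp at hm
        · rw [pow_succ, pow_succ] at hm; omega)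
    obtain ⟨c, hc⟩ := cauchy r hr.1 hr.2.1
    refine ⟨c, r, d, hr.1, hr.lt two_pos (by omega), hcard, hc, fin c (trivFix _ ?_)⟩
    obtain ⟨j, hj, hcj⟩ := hpow (act G c)
    have h1 := hfixtop (act G c) r hr.1 (hc ▸ pow_orderOf_eq_one _)
    rw [hcj] at h1
    have hjd : j ≠ d := by
      rintro rfl
      have htop : Fix (act G c) = ⊤ := Subgroup.eq_top_of_card_eq _ (hcj.trans hcard.symm)
      have h1 : act G c = 1 := MulEquiv.ext fun v => (htop.ge (Subgroup.mem_top v) : _)
      rw [h1, orderOf_one] at hc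
      exact hr.1.ne_one hc.symm
    by_contra hne
    have hj0 : j ≠ 0 := fun e => hne (by rw [hcj, e, pow_zero])
    refine hr.2.2 j (by omega) (by omega) ((Nat.modEq_iff_dvd' (Nat.one_le_two_pow)).mp ?_)
    exact ((Nat.modEq_iff_dvd' (Nat.one_le_two_pow)).mpr hr.2.1).trans h1

end Cfsg.Agent.TwoLenInv
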