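import Cfsg.Agent.TwoLenInv.Elements
import Cfsg.Agent.TwoLenInv.Anisotropic
import Cfsg.Agent.Fus93.Critical

/-!
# A small faithful module for the odd part of `C(V) / O₂(G)`
-/

set_option autoImplicit false

namespace Cfsg.Agent.TwoLenInv

/-- If an element of odd order fixes the `2`-element by which it moves `x`, it fixes `x`. -/
theorem fix_of_fix_comm {G : Type*} [Group G] [Finite G] {g x : G} (hg : Odd (orderOf g))
    (hd : g * (x⁻¹ * (g * x * g⁻¹)) = x⁻¹ * (g * x * g⁻¹) * g)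
    (h2 : ∃ k : ℕ, (x⁻¹ * (g * x * g⁻¹)) ^ (2 ^ k) = 1) : g * x * g⁻¹ = x := by
  set d := x⁻¹ * (g * x * g⁻¹) with hd'
  have hn : ∀ n : ℕ, g ^ n * x * (g ^ n)⁻¹ = x * d ^ n := by
    intro n
    induction n with
    | zero => simp
    | succ n ih =>
      have hgd : g * d ^ n * g⁻¹ = d ^ n := by
        rw [(show Commute g d from hd).pow_right n, mul_inv_cancel_right]
      calc g ^ (n + 1) * x * (g ^ (n + 1))⁻¹ = g * (g ^ n * x * (g ^ n)⁻¹) * g⁻¹ := by
            rw [pow_succ']; group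
        _ = (g * x * g⁻¹) * (g * d ^ n * g⁻¹) := by rw [ih]; group
        _ = x * d ^ (n + 1) := by
            rw [hgd, pow_succ', show g * x * g⁻¹ = x * d by rw [hd', mul_inv_cancel_left], mul_assoc]
  obtain ⟨k, hk⟩ := h2
  have h1 := hn (orderOf g)
  rw [pow_orderOf_eq_one, one_mul, inv_one, mul_one, left_eq_mul] at h1
  have h3 : d = 1 := by
    have h4 := pow_gcd_eq_one.mpr ⟨hk, h1⟩
    rwa [((Nat.coprime_two_left.mpr hg).pow_left k).gcd_eq_one, pow_one] at h4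
  exact (inv_mul_eq_one.mp (hd'.symm.trans h3)).symm

variable {G : Type*} [Group G] [Finite G]

/-- The module: squares of the elements of a critical subgroup of `O₂(G)` of order at most four. -/
theorem Hyp.exists_module (h : Hyp G) :
    ∃ (K : Subgroup G), K.Normal ∧ omegaSub G ≤ K ∧
      Nat.card ↥K ≤ Nat.card (omegaSub G) ^ 3 ∧
      (∀ q ∈ Cfsg.pCore 2 G, ∀ x ∈ K, x⁻¹ * (q * x * q⁻¹) ∈ omegaSub G) ∧
      (∀ x ∈ K, ∀ y ∈ K, x * y * x⁻¹ * y⁻¹ ∈ omegaSub G) ∧ (∀ x ∈ K, x ^ 2 ∈ omegaSub G) ∧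
      ∀ g : G, g ∈ cenV G → Odd (orderOf g) →
        (∀ x ∈ K, x⁻¹ * (g * x * g⁻¹) ∈ omegaSub G) → g = 1 := by
  classical
  haveI := Fact.mk Nat.prime_two
  set Q := Cfsg.pCore 2 G with hQdef
  have hQ : IsPGroup 2 Q := Thompson.isPGroup_pCore
  obtain ⟨Hc, hchar, hcen, hpow, hcomm⟩ := Fus93.exists_critical hQ
  haveI := hchar
  set H := Hc.map Q.subtype with hH
  haveI hHn : H.Normal := Thompson.map_subtype_normal_of_characteristic Q Hc
  have hHQ : H ≤ Q := Subgroup.map_subtype_le Hc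
  have hlift : ∀ x ∈ H, ∃ (hx : x ∈ Q), (⟨x, hx⟩ : Q) ∈ Hc := by
    rintro _ ⟨y, hy, rfl⟩; exact ⟨y.2, hy⟩
  -- statements of the critical subgroup inside `G`
  let Z := Subgroup.centralizer (H : Set G)
  have hcen' : ∀ u ∈ Q, u ∈ Z → u ∈ H := fun u hu hz => ⟨⟨u, hu⟩, hcen
    (Subgroup.mem_centralizer_iff.mpr fun y hy => Subtype.ext
      (Subgroup.mem_centralizer_iff.mp hz y ⟨y, hy, rfl⟩)), rfl⟩
  have hZ : ∀ u : Q, u ∈ Subgroup.centralizer (Hc : Set Q) → (u : G) ∈ Z := fun u hu =>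
    Subgroup.mem_centralizer_iff.mpr fun y hy => by
      obtain ⟨hyQ, hyH⟩ := hlift y hy
      exact congrArg Subtype.val (Subgroup.mem_centralizer_iff.mp hu ⟨y, hyQ⟩ hyH)
  have hsqZ : ∀ x ∈ H, x ^ 2 ∈ Z := fun x hx => by
    obtain ⟨hxQ, hxH⟩ := hlift x hx
    simpa using hZ _ (hpow _ hxH)
  have hcomZ : ∀ x ∈ H, ∀ q ∈ Q, x⁻¹ * (q * x * q⁻¹) ∈ Z := fun x hx q hq => by
    obtain ⟨hxQ, hxH⟩ := hlift x hx
    simpa using hZ _ (hcomm _ hxH ⟨q, hq⟩)
  have hV : ∀ v ∈ omegaSub G, ∀ u ∈ Q, u * v = v * u := fun v hv u hu =>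
    Subgroup.mem_centralizer_iff.mp hv.2.1 u hu
  have hcomV : ∀ x ∈ H, ∀ y ∈ H, x * y * x⁻¹ * y⁻¹ ∈ omegaSub G := by
    intro x hx y hy
    have hcZ : x * y * x⁻¹ * y⁻¹ ∈ Z := by
      have h1 := hcomZ x⁻¹ (inv_mem hx) y (hHQ hy)
      rw [inv_inv] at h1
      simpa [mul_assoc] using h1
    refine h.mem_of_sq ?_
    set c := x * y * x⁻¹ * y⁻¹ with hc
    have hxc : x * c = c * x := Subgroup.mem_centralizer_iff.mp hcZ x hx
    have hxy : x ^ 2 * y = y * x ^ 2 :=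
      (Subgroup.mem_centralizer_iff.mp (hsqZ x hx) y hy).symm
    calc c ^ 2 = x * c * x⁻¹ * c := by rw [hxc, mul_inv_cancel_right, sq]
      _ = x ^ 2 * y * (x ^ 2)⁻¹ * y⁻¹ := by rw [hc, sq]; group
      _ = 1 := by rw [hxy]; group
  -- the subgroup of elements of order dividing four
  have hmul4 : ∀ x ∈ H, ∀ y ∈ H, x ^ 4 = 1 → y ^ 4 = 1 → (x * y) ^ 4 = 1 := by
    intro x hx y hy hx4 hy4
    have hcm := hcomV y hy x hx
    set c := y * x * y⁻¹ * x⁻¹ with hc
    have hcg : ∀ g ∈ Q, g * c = c * g := fun g hg => hV c hcm g hg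
    have hx2 : ∀ g ∈ H, g * x ^ 2 = x ^ 2 * g := fun g hg =>
      Subgroup.mem_centralizer_iff.mp (hsqZ x hx) g hg
    have e : (x * y) ^ 2 = x ^ 2 * y ^ 2 * c := by
      calc (x * y) ^ 2 = x * (c * (x * y * y)) := by
            simp only [hc, sq, mul_assoc, inv_mul_cancel_left]
        _ = x * (x * y * y * c) := by
            rw [hcg (x * y * y) (hHQ (mul_mem (mul_mem hx hy) hy))]
        _ = x ^ 2 * y ^ 2 * c := by simp only [sq, mul_assoc]
    have hxy : Commute (x ^ 2) (y ^ 2) := (hx2 _ (pow_mem hy 2)).symm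
    have hc2 : Commute (x ^ 2 * y ^ 2) c := hcg _ (hHQ (mul_mem (pow_mem hx 2) (pow_mem hy 2)))
    rw [show (4 : ℕ) = 2 * 2 from rfl, pow_mul, e, hc2.mul_pow, hcm.2.2, mul_one, hxy.mul_pow,
      ← pow_mul, ← pow_mul, hx4, hy4, one_mul]
  let K : Subgroup G :=
    { carrier := {x | x ∈ H ∧ x ^ 4 = 1}
      one_mem' := ⟨one_mem _, one_pow 4⟩
      mul_mem' := fun {x y} hx hy => ⟨mul_mem hx.1 hy.1, hmul4 x hx.1 y hy.1 hx.2 hy.2⟩
      inv_mem' := fun {x} hx => ⟨inv_mem hx.1, by rw [inv_pow, hx.2, inv_one]⟩ }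
  haveI hKn : K.Normal :=
    ⟨fun x hx g => ⟨hHn.conj_mem x hx.1 g, by rw [conj_pow, hx.2, mul_one, mul_inv_cancel]⟩⟩
  have hVK : omegaSub G ≤ K := fun v hv => ⟨hcen' v hv.1 (Subgroup.mem_centralizer_iff.mpr
    fun y hy => hV v hv y (hHQ hy)), by
      rw [show (4 : ℕ) = 2 * 2 from rfl, pow_mul, hv.2.2, one_pow]⟩
  have hsqV : ∀ x ∈ K, x ^ 2 ∈ omegaSub G := fun x hx =>
    h.mem_of_sq (by rw [← pow_mul]; exact hx.2)
  refine ⟨K, hKn, hVK, ?_, ?_, fun x hx y hy => hcomV x hx.1 y hy.1, hsqV, ?_⟩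
  · -- Chevalley–Warning
    set V' := (omegaSub G).subgroupOf K
    have := card_le_of_anisotropic V' (fun v hv => Subgroup.mem_center_iff.mpr fun y =>
        Subtype.ext (hV _ hv y (hHQ y.2.1)))
      (fun v hv => Subtype.ext hv.2.2) (fun x => hsqV x x.2)
      (fun x hx => h.mem_of_sq (by simpa using congrArg Subtype.val hx))
    have hV' : Nat.card V' = Nat.card (omegaSub G) :=
      Nat.card_congr (Subgroup.subgroupOfEquivOfLe hVK).toEquiv
    rw [hV'] at this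
    rw [V'.card_eq_card_quotient_mul_card_subgroup, hV', pow_succ]
    exact Nat.mul_le_mul_right _ this
  · intro q hq x hx
    refine h.mem_of_sq ?_
    have hz := hcomZ x hx.1 q hq
    set z := x⁻¹ * (q * x * q⁻¹) with hzdef
    have hxz : x * z = z * x := Subgroup.mem_centralizer_iff.mp hz x hx.1
    have h1 : (q * x * q⁻¹) ^ 2 = x ^ 2 := by
      rw [conj_pow, hV _ (hsqV x hx) q hq, mul_inv_cancel_right]
    rw [show q * x * q⁻¹ = x * z by rw [hzdef, mul_inv_cancel_left],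
      (show Commute x z from hxz).mul_pow] at h1
    exact mul_eq_left.mp h1
  · intro g hgC hgodd hgK
    have hfixV : ∀ v ∈ omegaSub G, g * v = v * g := fun v hv =>
      (Subgroup.mem_centralizer_iff.mp hgC v hv).symm
    have h2elt : ∀ u ∈ Q, ∃ k : ℕ, u ^ (2 ^ k) = 1 := fun u hu => by
      obtain ⟨k, hk⟩ := hQ ⟨u, hu⟩
      exact ⟨k, by simpa using congrArg Subtype.val hk⟩
    have hfixK : ∀ x ∈ K, g * x * g⁻¹ = x := fun x hx =>
      fix_of_fix_comm hgodd (hfixV _ (hgK x hx)) (h2elt _ (hgK x hx).1)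
    have hgH : ∀ x ∈ H, g * x * g⁻¹ ∈ H := fun x hx => hHn.conj_mem x hx g
    -- the centre of the critical subgroup
    have hfixZ : ∀ k : ℕ, ∀ z ∈ H, z ∈ Z → z ^ (2 ^ k) = 1 → g * z * g⁻¹ = z := by
      intro k
      induction k with
      | zero => intro z _ _ hz1; rw [pow_zero, pow_one] at hz1; rw [hz1, mul_one, mul_inv_cancel]
      | succ k ih =>
        intro z hzH hzZ hz1
        have h2 := ih (z ^ 2) (pow_mem hzH 2) (pow_mem hzZ 2) (by rw [← pow_mul, ← pow_succ', hz1])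
        set d := z⁻¹ * (g * z * g⁻¹) with hd
        have hdH : d ∈ H := mul_mem (inv_mem hzH) (hgH z hzH)
        have hzd : z * d = d * z := (Subgroup.mem_centralizer_iff.mp hzZ d hdH).symm
        have hdV : d ∈ omegaSub G := by
          refine h.mem_of_sq ?_
          rw [← conj_pow, show g * z * g⁻¹ = z * d by rw [hd, mul_inv_cancel_left],
            (show Commute z d from hzd).mul_pow] at h2
          exact mul_eq_left.mp h2
        exact fix_of_fix_comm hgodd (hfixV d hdV) (h2elt d (hHQ hdH))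
    have hfixH : ∀ x ∈ H, g * x * g⁻¹ = x := by
      intro x hx
      set d := x⁻¹ * (g * x * g⁻¹) with hd
      have hdH : d ∈ H := mul_mem (inv_mem hx) (hgH x hx)
      have hx2 : g * x ^ 2 * g⁻¹ = x ^ 2 := by
        obtain ⟨k, hk⟩ := h2elt _ (pow_mem (hHQ hx) 2)
        exact hfixZ k _ (pow_mem hx 2) (hsqZ x hx) hk
      have hdK : d ∈ K := by
        refine ⟨hdH, ?_⟩
        rw [← conj_pow, show g * x * g⁻¹ = x * d by rw [hd, mul_inv_cancel_left]] at hx2
        have h1 : d * x * d = x := by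
          rw [sq, sq, mul_assoc x d, mul_left_cancel_iff, ← mul_assoc] at hx2
          exact hx2
        have h2 : x⁻¹ * d * x = d⁻¹ := by
          calc x⁻¹ * d * x = x⁻¹ * (d * x * d) * d⁻¹ := by group
            _ = d⁻¹ := by rw [h1, inv_mul_cancel, one_mul]
        have h3 := hcomV x⁻¹ (inv_mem hx) d hdH
        rw [inv_inv, h2, ← mul_inv_rev, ← sq] at h3
        have h4 := h3.2.2
        rw [inv_pow, inv_eq_one, ← pow_mul] at h4
        exact h4
      refine fix_of_fix_comm hgodd ?_ (h2elt d (hHQ hdH))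
      exact mul_inv_eq_iff_eq_mul.mp (hfixK d hdK)
    -- so `g` centralizes `O₂(G)`
    have hgQ : g ∈ Subgroup.centralizer (Q : Set G) := Subgroup.mem_centralizer_iff.mpr fun u hu => by
      set d := u⁻¹ * (g * u * g⁻¹) with hd
      have hdQ : d ∈ Q := mul_mem (inv_mem hu) (Thompson.instPCoreNormal.conj_mem u hu g)
      have hdZ : d ∈ Z := Subgroup.mem_centralizer_iff.mpr fun x hx => by
        have hx' : u * x * u⁻¹ ∈ H := hHn.conj_mem x hx u
        have h1 := hfixH _ hx'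
        have h2 := hfixH x hx
        have h3 : g * u * g⁻¹ * x * (g * u * g⁻¹)⁻¹ = u * x * u⁻¹ := by
          calc g * u * g⁻¹ * x * (g * u * g⁻¹)⁻¹
              = g * u * g⁻¹ * (g * x * g⁻¹) * (g * u * g⁻¹)⁻¹ := by rw [h2]
            _ = g * (u * x * u⁻¹) * g⁻¹ := by group
            _ = u * x * u⁻¹ := h1
        calc x * d = u⁻¹ * (u * x * u⁻¹) * (g * u * g⁻¹) := by rw [hd]; group
          _ = u⁻¹ * (g * u * g⁻¹ * x * (g * u * g⁻¹)⁻¹) * (g * u * g⁻¹) := by rw [h3]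
          _ = d * x := by rw [hd]; group
      exact (mul_inv_eq_iff_eq_mul.mp (fix_of_fix_comm hgodd
        (mul_inv_eq_iff_eq_mul.mp (hfixH d (hcen' d hdQ hdZ))) (h2elt d hdQ))).symm
    obtain ⟨k, hk⟩ := h2elt g (h.centralizer_le hgQ)
    have h4 := pow_gcd_eq_one.mpr ⟨hk, pow_orderOf_eq_one g⟩
    rwa [((Nat.coprime_two_left.mpr hgodd).pow_left k).gcd_eq_one, pow_one] at h4

end Cfsg.Agent.TwoLenInv
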