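import Cfsg.Agent.TwoLenInv.Faithful
import Cfsg.Agent.TwoLenInv.Eigen

/-!
# The kernel of the action on `V` has Sylow `2`-subgroup `O₂(G)`
-/

set_option autoImplicit false

namespace Cfsg.Agent.TwoLenInv

/-- An element normalizing a subgroup normalizes its characteristic subgroups. -/
theorem mem_normalizer_map_char {X : Type*} [Group X] {P : Subgroup X} (K : Subgroup P)
    [K.Characteristic] {g : X} (hg : g ∈ Subgroup.normalizer (P : Set X)) :
    g ∈ Subgroup.normalizer (K.map P.subtype : Set X) := by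
  have key : ∀ g ∈ Subgroup.normalizer (P : Set X), ∀ x ∈ K.map P.subtype,
      g * x * g⁻¹ ∈ K.map P.subtype := by
    rintro g hg _ ⟨y, hy, rfl⟩
    refine ⟨P.normalizerMonoidHom ⟨g, hg⟩ y, ?_, rfl⟩
    exact (Subgroup.characteristic_iff_le_comap.mp inferInstance _) hy
  rw [Subgroup.mem_normalizer_iff]
  intro x
  refine ⟨key g hg x, fun hx => ?_⟩
  have := key g⁻¹ (inv_mem hg) _ hx
  simpa [mul_assoc] using this

/-- The action of the normalizer of `P` on `P ⧸ Φ(P)`. -/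
theorem exists_frattiniAction {X : Type*} [Group X] (P : Subgroup X) :
    ∃ ρ : ↥(Subgroup.normalizer (P : Set X)) →* MulAut (P ⧸ frattini P),
      ∀ g (y : P), ρ g (y : P ⧸ frattini P) = ((P.normalizerMonoidHom g y : P) : P ⧸ frattini P) := by
  haveI : (frattini P).Normal := Subgroup.normal_of_characteristic _
  refine ⟨MonoidHom.mk' (fun g => QuotientGroup.congr (frattini P) (frattini P)
    (P.normalizerMonoidHom g) (Subgroup.characteristic_iff_map_eq.mp inferInstance _)) ?_,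
    fun g y => rfl⟩
  intro g h
  refine MulEquiv.ext fun w => ?_
  obtain ⟨y, rfl⟩ := QuotientGroup.mk_surjective w
  show ((P.normalizerMonoidHom (g * h) y : P) : P ⧸ frattini P) = _
  rw [map_mul]
  rfl

theorem eq_one_of_sq_of_odd {X : Type*} [Group X] {x : X} {q k : ℕ} (hq : Odd q) (h2 : x ^ 2 = 1)
    (hx : x ^ (q ^ k) = 1) : x = 1 := by
  obtain ⟨r, hr⟩ := hq.pow (n := k)
  rwa [hr, pow_succ, pow_mul, h2, one_pow, one_mul] at hx

variable {G : Type*} [Group G] [Finite G]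

/-- A normal nilpotent subgroup of `G ⧸ O₂(G)` has odd order. -/
theorem odd_card_of_nilpotent {F : Subgroup (G ⧸ Cfsg.pCore 2 G)} [F.Normal]
    (hF : Group.IsNilpotent F) : Odd (Nat.card F) := by
  haveI := Fact.mk Nat.prime_two
  haveI := hF
  obtain ⟨R⟩ := (inferInstance : Nonempty (Sylow 2 F))
  haveI : (R : Subgroup F).Normal :=
    Sylow.normal_of_normalizerCondition Group.normalizerCondition_of_isNilpotent R
  haveI : (R : Subgroup F).Characteristic := R.characteristic_of_normal inferInstance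
  haveI := Thompson.map_subtype_normal_of_characteristic F (R : Subgroup F)
  have hle := Thompson.le_pCore (p := 2) (N := (R : Subgroup F).map F.subtype) inferInstance
    (R.2.map _)
  rw [Thompson.pCore_quotient_pCore, le_bot_iff,
    Subgroup.map_eq_bot_iff_of_injective _ F.subtype_injective] at hle
  rw [Nat.odd_iff]
  by_contra hne
  refine R.ne_bot_of_dvd_card ?_ hle
  omega

/-- A `2`-element centralizing `V` lies in `O₂(G)`. -/
theorem Hyp.mem_pCore_of_mem_cenV (h : Hyp G) {x : G} (hxC : x ∈ cenV G)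
    (hx2 : ∃ k : ℕ, x ^ (2 ^ k) = 1) : x ∈ Cfsg.pCore 2 G := by
  classical
  haveI := Fact.mk Nat.prime_two
  haveI := h.sol
  by_contra hxQ
  set Q := Cfsg.pCore 2 G with hQdef
  have hQ : IsPGroup 2 Q := Thompson.isPGroup_pCore
  set C := cenV G
  -- a Sylow subgroup of `C`
  obtain ⟨P₀, hP₀⟩ : ∃ P₀ : Sylow 2 C, (⟨x, hxC⟩ : C) ∈ P₀ := by
    obtain ⟨k, hk⟩ := hx2
    have hz : IsPGroup 2 (Subgroup.zpowers (⟨x, hxC⟩ : C)) := fun z => ⟨k, Subtype.ext (by
      obtain ⟨n, hn⟩ := Subgroup.mem_zpowers_iff.mp z.2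
      rw [SubmonoidClass.coe_pow, ← hn, ← zpow_natCast, ← zpow_mul, mul_comm, zpow_mul,
        zpow_natCast, show (⟨x, hxC⟩ : C) ^ (2 ^ k) = 1 from Subtype.ext hk, one_zpow]; rfl)⟩
    obtain ⟨P₀, hP₀⟩ := hz.exists_le_sylow
    exact ⟨P₀, hP₀ (Subgroup.mem_zpowers _)⟩
  set T := (P₀ : Subgroup C).map C.subtype with hT
  have hT2 : IsPGroup 2 T := P₀.2.map _
  have hTC : T ≤ C := Subgroup.map_subtype_le _
  have hQT : Q ≤ T := fun u hu => ⟨⟨u, pCore_le_cenV hu⟩,
    Thompson.pCore_le_sylow P₀ (Thompson.subgroupOf_pCore_le C (show (⟨u, pCore_le_cenV hu⟩ : C) ∈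
      Q.subgroupOf C from hu)), rfl⟩
  -- a fixed-point-free element normalizing it
  obtain ⟨c, l, d, hl, hdl, hcard, hord, hc⟩ := h.exists_large
  obtain ⟨y, hy, z, hz, hyz⟩ : ∃ y ∈ Subgroup.normalizer (T : Set G), ∃ z ∈ C, y * z = c := by
    have hfr := Sylow.normalizer_sup_eq_top P₀
    have hmem : c ∈ ((Subgroup.normalizer (T : Set G) ⊔ C : Subgroup G) : Set G) := by
      rw [hfr]; exact Set.mem_univ c
    rw [Subgroup.coe_mul_of_left_le_normalizer_right _ _
      (fun g _ => by rw [Subgroup.normalizer_eq_top]; exact Subgroup.mem_top g)] at hmem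
    obtain ⟨y, hy, z, hz, rfl⟩ := hmem
    exact ⟨y, hy, z, hz, rfl⟩
  have hyact : act G y = act G c := by
    rw [← hyz, map_mul, act_eq_one_iff.mpr hz, mul_one]
  obtain ⟨m, hm, kn, hkn⟩ := exists_lElem (g := y) hl (hyact ▸ hord)
  set n := y ^ m with hn
  have hnT : n ∈ Subgroup.normalizer (T : Set G) := pow_mem hy m
  have hnfpf : Fpf n := (hc.of_act_eq hyact).pow (by rw [hyact, hord]; exact hm)
  have hl2 : l ≠ 2 := by
    rintro rfl
    obtain ⟨d', hd', hcard'⟩ := h.card_omegaSub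
    have := Nat.pow_right_injective le_rfl (hcard.symm.trans hcard')
    omega
  have hncop : ∀ (S : Subgroup G), IsPGroup 2 S → (orderOf n).Coprime (Nat.card S) := by
    intro S hS
    obtain ⟨j, hj⟩ := IsPGroup.iff_card.mp hS
    rw [hj]
    exact (((Nat.coprime_primes hl Nat.prime_two).mpr hl2).pow kn j).coprime_dvd_left
      (orderOf_dvd_of_pow_eq_one hkn)
  -- the quotient by `O₂(G)`
  let π := QuotientGroup.mk' Q
  let T' := T.map π
  have hT' : IsPGroup 2 T' := hT2.map π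
  haveI : Nontrivial T' := by
    rw [Subgroup.nontrivial_iff_ne_bot]
    intro hb
    rw [Subgroup.map_eq_bot_iff, QuotientGroup.ker_mk'] at hb
    exact hxQ (hb ⟨⟨x, hxC⟩, hP₀, rfl⟩)
  let E : Subgroup (G ⧸ Q) :=
    { carrier := {e | e ∈ T' ∧ (∀ t ∈ T', t * e = e * t) ∧ e ^ 2 = 1}
      one_mem' := ⟨one_mem _, fun t _ => by simp, one_pow 2⟩
      mul_mem' := fun {a b} ha hb => ⟨mul_mem ha.1 hb.1,
        fun t ht => by rw [← mul_assoc, ha.2.1 t ht, mul_assoc, hb.2.1 t ht, mul_assoc],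
        by rw [(show Commute a b from hb.2.1 a ha.1).mul_pow, ha.2.2, hb.2.2, one_mul]⟩
      inv_mem' := fun {a} ha => ⟨inv_mem ha.1,
        fun t ht => ((show Commute t a from ha.2.1 t ht).inv_right).eq,
        by rw [inv_pow, ha.2.2, inv_one]⟩ }
  obtain ⟨e₁, he₁E, he₁⟩ : ∃ e ∈ E, e ≠ 1 := by
    haveI := hT'.center_nontrivial
    obtain ⟨z, hz, hz1, hz2⟩ := PGroup.exists_mem_pow_eq_one hT'
      ((Subgroup.nontrivial_iff_ne_bot (Subgroup.center T')).mp inferInstance)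
    refine ⟨(z : G ⧸ Q), ⟨z.2, fun t ht => congrArg Subtype.val
      (Subgroup.mem_center_iff.mp hz ⟨t, ht⟩), ?_⟩, fun e => hz1 (Subtype.ext e)⟩
    rw [← SubmonoidClass.coe_pow, hz2]; rfl
  have hnT' : π n ∈ Subgroup.normalizer (T' : Set (G ⧸ Q)) :=
    Subgroup.le_normalizer_map π ⟨n, hnT, rfl⟩
  have hnE : π n ∈ Subgroup.normalizer (E : Set (G ⧸ Q)) := by
    have key : ∀ g ∈ Subgroup.normalizer (T' : Set (G ⧸ Q)), ∀ e ∈ E, g * e * g⁻¹ ∈ E :=
      fun g hg e he => ⟨(Subgroup.mem_normalizer_iff.mp hg e).mp he.1, fun t ht => by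
        have h1 := he.2.1 _ ((Subgroup.mem_normalizer_iff''.mp hg t).mp ht)
        calc t * (g * e * g⁻¹) = g * (g⁻¹ * t * g * e) * g⁻¹ := by group
          _ = g * e * g⁻¹ * t := by rw [h1]; group,
        by rw [conj_pow, he.2.2, mul_one, mul_inv_cancel]⟩
    rw [Subgroup.mem_normalizer_iff]
    refine fun e => ⟨key _ hnT' e, fun he => ?_⟩
    have := key _ (inv_mem hnT') _ he
    simpa [mul_assoc] using this
  have hEfpf : ∀ e ∈ E, π n * e * (π n)⁻¹ = e → e = 1 := by
    intro e he hne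
    obtain ⟨t, ht, rfl⟩ := he.1
    have hmem : t⁻¹ * (n * t * n⁻¹) ∈ Q := by
      rw [← QuotientGroup.eq_one_iff]
      show π (t⁻¹ * (n * t * n⁻¹)) = 1
      simp only [map_mul, map_inv]
      rw [hne, inv_mul_cancel]
    obtain ⟨u, hu, hc'⟩ := exists_commute_in_coset n t Q
      (by rw [Subgroup.normalizer_eq_top]; exact Subgroup.mem_top n) (hncop Q hQ) hmem
    obtain ⟨k, hk⟩ := hT2 ⟨t * u, mul_mem ht (hQT hu)⟩
    have h1 := h.eq_one_of_commute hnfpf k (t * u) (by simpa using congrArg Subtype.val hk) hc'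
    rw [eq_inv_of_mul_eq_one_left h1, map_inv, inv_eq_one]
    exact (QuotientGroup.eq_one_iff u).mpr hu
  -- the odd nilpotent group
  set C' := C.map π with hC'
  haveI : C'.Normal := (inferInstance : C.Normal).map π (QuotientGroup.mk'_surjective Q)
  set F := Cfsg.fittingSubgroup (G ⧸ Q) with hF
  haveI : Group.IsNilpotent F := Fitting.fitting_isNilpotent
  have hFodd : Odd (Nat.card F) := odd_card_of_nilpotent inferInstance
  set F₀ := F ⊓ C' with hF₀
  have hE2 : ∀ e ∈ E, ∀ u : G ⧸ Q, e * (e * u * e⁻¹) * e⁻¹ = u := by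
    intro e he u
    have : e * e = 1 := by rw [← sq]; exact he.2.2
    calc e * (e * u * e⁻¹) * e⁻¹ = e * e * u * (e * e)⁻¹ := by group
      _ = u := by rw [this, inv_one, one_mul, mul_one]
  have hEC : ∀ e ∈ E, e ∈ C' := fun e he => Subgroup.map_mono hTC he.1
  -- the twist lemma
  have twist : ∀ e ∈ E, ∀ u : G ⧸ Q, ∀ q k : ℕ, Odd q →
      (u⁻¹ * (e * u * e⁻¹)) ^ (q ^ k) = 1 →
      e * (u⁻¹ * (e * u * e⁻¹)) = u⁻¹ * (e * u * e⁻¹) * e → e * u * e⁻¹ = u := by
    intro e he u q k hq hpow hcomm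
    set w := u⁻¹ * (e * u * e⁻¹) with hw
    have h1 : e * u * e⁻¹ = u * w := by rw [hw, mul_inv_cancel_left]
    have h2 : e * w * e⁻¹ = w := by rw [hcomm, mul_inv_cancel_right]
    have h3 : u = u * w ^ 2 := by
      conv_lhs => rw [← hE2 e he u, h1]
      calc e * (u * w) * e⁻¹ = (e * u * e⁻¹) * (e * w * e⁻¹) := by group
        _ = u * w ^ 2 := by rw [h1, h2, mul_assoc, sq]
    exact (inv_mul_eq_one.mp (hw.symm.trans (eq_one_of_sq_of_odd hq (left_eq_mul.mp h3) hpow))).symm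
  have hF₀ne : ¬ ∀ u ∈ F₀, e₁ * u = u * e₁ := by
    intro hcen
    have hcenF : e₁ ∈ Subgroup.centralizer (F : Set (G ⧸ Q)) :=
      Subgroup.mem_centralizer_iff.mpr fun u hu => by
        have hwF : u⁻¹ * (e₁ * u * e₁⁻¹) ∈ F₀ :=
          Subgroup.mem_inf.mpr ⟨F.mul_mem (F.inv_mem hu) ((inferInstance : F.Normal).conj_mem u hu e₁), by
            rw [← mul_assoc, ← mul_assoc]
            exact mul_mem ((inferInstance : C'.Normal).conj_mem' e₁ (hEC e₁ he₁E) u)
              (inv_mem (hEC e₁ he₁E))⟩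
        have h1 := twist e₁ he₁E u (Nat.card F) 1 hFodd (by
          rw [pow_one]
          have := pow_card_eq_one' (G := F) (x := ⟨_, hwF.1⟩)
          exact (SubmonoidClass.coe_pow _ _).symm.trans (congrArg Subtype.val this)) (hcen _ hwF)
        exact (mul_inv_eq_iff_eq_mul.mp h1).symm
    have h1 := Fitting.centralizer_fitting_le hcenF
    refine he₁ (eq_one_of_sq_of_odd (k := 1) hFodd he₁E.2.2 ?_)
    rw [pow_one]
    have := pow_card_eq_one' (G := F) (x := ⟨_, h1⟩)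
    exact (SubmonoidClass.coe_pow _ _).symm.trans (congrArg Subtype.val this)
  -- a minimal noncentralized invariant subgroup
  let S : Set (Subgroup (G ⧸ Q)) := {P | P ≤ F₀ ∧ π n ∈ Subgroup.normalizer (P : Set (G ⧸ Q)) ∧
    E ≤ Subgroup.normalizer (P : Set (G ⧸ Q)) ∧ ¬ E ≤ Subgroup.centralizer (P : Set (G ⧸ Q))}
  have hF₀S : F₀ ∈ S := ⟨le_rfl, by rw [Subgroup.normalizer_eq_top]; exact Subgroup.mem_top _,
    by rw [Subgroup.normalizer_eq_top]; exact le_top,
    fun hle => hF₀ne fun u hu => (Subgroup.mem_centralizer_iff.mp (hle he₁E) u hu).symm⟩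
  obtain ⟨P, hP⟩ := S.toFinite.exists_minimal ⟨F₀, hF₀S⟩
  obtain ⟨hPF, hnP, hEP, hPne⟩ := hP.1
  have hsub : ∀ R ≤ P, R ≠ P → π n ∈ Subgroup.normalizer (R : Set (G ⧸ Q)) →
      E ≤ Subgroup.normalizer (R : Set (G ⧸ Q)) → E ≤ Subgroup.centralizer (R : Set (G ⧸ Q)) := by
    intro R hR hne h1 h2
    by_contra h3
    exact hne (le_antisymm hR (hP.2 ⟨hR.trans hPF, h1, h2, h3⟩ hR))
  have hPn : Group.IsNilpotent P :=
    Group.nilpotent_of_mulEquiv (Subgroup.subgroupOfEquivOfLe (hPF.trans inf_le_left))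
  have hPodd : Odd (Nat.card P) :=
    hFodd.of_dvd_nat (Subgroup.card_dvd_of_le (hPF.trans inf_le_left))
  obtain ⟨q, hq, hPq⟩ : ∃ q, q.Prime ∧ IsPGroup q P := by
    by_contra hno
    push Not at hno
    refine hPne fun e he => ?_
    let K : Subgroup P := (Subgroup.centralizer ({e} : Set (G ⧸ Q))).subgroupOf P
    suffices hK : K = ⊤ from Subgroup.mem_centralizer_iff.mpr fun u hu =>
      Subgroup.mem_centralizer_singleton_iff.mp (hK.ge (Subgroup.mem_top (⟨u, hu⟩ : P)))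
    refine Subgroup.eq_top_of_card_eq _ (Nat.dvd_antisymm (Subgroup.card_subgroup_dvd_card _)
      ((Nat.dvd_iff_prime_pow_dvd_dvd _ _).mpr fun r k hr hrk => ?_))
    haveI := Fact.mk hr
    obtain ⟨R⟩ := (inferInstance : Nonempty (Sylow r P))
    haveI := hPn
    haveI : (R : Subgroup P).Characteristic :=
      R.characteristic_of_normal (Sylow.normal_of_normalizerCondition
        Group.normalizerCondition_of_isNilpotent R)
    have hR := hsub ((R : Subgroup P).map P.subtype) (Subgroup.map_subtype_le _) (fun e' =>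
      hno r hr (by
        have h3 : IsPGroup r ((R : Subgroup P).map P.subtype) := R.2.map _
        rwa [e'] at h3)) (mem_normalizer_map_char _ hnP)
      (fun g hg => mem_normalizer_map_char _ (hEP hg))
    have hRK : (R : Subgroup P) ≤ K := fun u hu =>
      Subgroup.mem_centralizer_singleton_iff.mpr
        (Subgroup.mem_centralizer_iff.mp (hR he) u ⟨u, hu, rfl⟩)
    refine dvd_trans ?_ (Subgroup.card_dvd_of_le hRK)
    rw [R.card_eq_multiplicity]
    exact pow_dvd_pow r ((hr.pow_dvd_iff_le_factorization Nat.card_pos.ne').mp hrk)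
  haveI := Fact.mk hq
  obtain ⟨j, hj⟩ := IsPGroup.iff_card.mp hPq
  have hP1 : P ≠ ⊥ := fun e => hPne fun g _ => Subgroup.mem_centralizer_iff.mpr fun u hu => by
    have h0 : u ∈ (⊥ : Subgroup (G ⧸ Q)) := e ▸ (hu : u ∈ P)
    rw [Subgroup.mem_bot.mp h0, one_mul, mul_one]
  have hq2 : q ≠ 2 := by
    rintro rfl
    rcases j with _ | j
    · exact hP1 (Subgroup.eq_bot_of_card_eq _ hj)
    · rw [hj, Nat.odd_iff, pow_succ, Nat.mul_mod_left] at hPodd; omega
  have hqodd : Odd q := hq.odd_of_ne_two hq2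
  have hPpow : ∀ u ∈ P, ∃ k, u ^ (q ^ k) = 1 := fun u hu => by
    obtain ⟨k, hk⟩ := hPq ⟨u, hu⟩
    exact ⟨k, by simpa using congrArg Subtype.val hk⟩
  haveI : Nontrivial P := (Subgroup.nontrivial_iff_ne_bot P).mpr hP1
  haveI : (frattini P).Normal := Subgroup.normal_of_characteristic _
  set Φ := (frattini P).map P.subtype with hΦ
  have hΦP : Φ ≤ P := Subgroup.map_subtype_le _
  have hΦne : Φ ≠ P := by
    intro e
    have htop : frattini P = ⊤ := top_le_iff.mp fun u _ => by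
      obtain ⟨v, hv, hvu⟩ : (u : G ⧸ Q) ∈ Φ := e.symm ▸ u.2
      rwa [← Subtype.ext (show (v : G ⧸ Q) = u from hvu)]
    obtain ⟨M, hM, -⟩ := (eq_top_or_exists_le_coatom (⊥ : Subgroup P)).resolve_left bot_ne_top
    exact hM.1 (top_le_iff.mp (htop ▸ frattini_le_coatom hM))
  have hΦn : ∀ g ∈ Subgroup.normalizer (P : Set (G ⧸ Q)), g ∈ Subgroup.normalizer (Φ : Set (G ⧸ Q)) :=
    fun g hg => mem_normalizer_map_char _ hg
  have hEΦ : ∀ e ∈ E, ∀ u ∈ Φ, e * u = u * e := fun e he u hu =>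
    (Subgroup.mem_centralizer_iff.mp
      (hsub Φ hΦP hΦne (hΦn _ hnP) (fun g hg => hΦn _ (hEP hg)) he) u hu).symm
  have hdP : ∀ e ∈ E, ∀ u ∈ P, u⁻¹ * (e * u * e⁻¹) ∈ P := fun e he u hu =>
    mul_mem (inv_mem hu) ((Subgroup.mem_normalizer_iff.mp (hEP he) u).mp hu)
  -- `Φ(P)` is central
  have hΦc : ∀ u ∈ P, ∀ v ∈ Φ, u * v = v * u := by
    set R := P ⊓ Subgroup.centralizer (Φ : Set (G ⧸ Q)) with hR
    suffices hRP : R = P from fun u hu v hv =>
      (Subgroup.mem_centralizer_iff.mp (hRP.ge hu).2 v hv).symm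
    by_contra hne
    have hinv : ∀ g ∈ Subgroup.normalizer (P : Set (G ⧸ Q)),
        g ∈ Subgroup.normalizer (R : Set (G ⧸ Q)) := fun g hg => by
      have key : ∀ g ∈ Subgroup.normalizer (P : Set (G ⧸ Q)), ∀ r ∈ R, g * r * g⁻¹ ∈ R :=
        fun g hg r hr => ⟨(Subgroup.mem_normalizer_iff.mp hg r).mp hr.1,
          Subgroup.mem_centralizer_iff.mpr fun v hv => by
            have h1 := Subgroup.mem_centralizer_iff.mp hr.2 _
              ((Subgroup.mem_normalizer_iff''.mp (hΦn g hg) v).mp hv)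
            calc v * (g * r * g⁻¹) = g * (g⁻¹ * v * g * r) * g⁻¹ := by group
              _ = g * r * g⁻¹ * v := by rw [h1]; group⟩
      rw [Subgroup.mem_normalizer_iff]
      refine fun r => ⟨key g hg r, fun hr => ?_⟩
      have := key g⁻¹ (inv_mem hg) _ hr
      simpa [mul_assoc] using this
    have hER := hsub R inf_le_left hne (hinv _ hnP) (fun g hg => hinv _ (hEP hg))
    refine hPne fun e he => Subgroup.mem_centralizer_iff.mpr fun u hu => ?_
    have hu' : u ∈ P := hu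
    have hdR : u⁻¹ * (e * u * e⁻¹) ∈ R := ⟨hdP e he u hu', Subgroup.mem_centralizer_iff.mpr
      fun v hv => by
        have hvu : u * v * u⁻¹ ∈ Φ := (Subgroup.mem_normalizer_iff.mp
          (hΦn u (Subgroup.le_normalizer hu')) v).mp hv
        have h1 := hEΦ e he v hv
        have h2 := hEΦ e he _ hvu
        have h3 : e * u * e⁻¹ * v * (e * u * e⁻¹)⁻¹ = u * v * u⁻¹ := by
          have h1' : e⁻¹ * v * e = v := by rw [mul_assoc, ← h1, inv_mul_cancel_left]
          calc e * u * e⁻¹ * v * (e * u * e⁻¹)⁻¹ = e * (u * (e⁻¹ * v * e) * u⁻¹) * e⁻¹ := by group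
            _ = u * v * u⁻¹ := by rw [h1', h2, mul_inv_cancel_right]
        calc v * (u⁻¹ * (e * u * e⁻¹)) = u⁻¹ * (u * v * u⁻¹) * (e * u * e⁻¹) := by group
          _ = u⁻¹ * (e * u * e⁻¹ * v * (e * u * e⁻¹)⁻¹) * (e * u * e⁻¹) := by rw [h3]
          _ = u⁻¹ * (e * u * e⁻¹) * v := by group⟩
    obtain ⟨k, hk⟩ := hPpow _ (hdP e he u hu')
    exact (mul_inv_eq_iff_eq_mul.mp (twist e he u q k hqodd hk
      (Subgroup.mem_centralizer_iff.mp (hER he) _ hdR).symm)).symm
  -- the action on `P ⧸ Φ(P)`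
  obtain ⟨ρN, hρN⟩ := exists_frattiniAction P
  let ρ : E →* MulAut (P ⧸ frattini P) := ρN.comp (Subgroup.inclusion hEP)
  let τ : MulAut E := E.normalizerMonoidHom ⟨π n, hnE⟩
  let σ : MulAut (P ⧸ frattini P) := ρN ⟨π n, hnP⟩
  have hρ : ∃ (e : E) (w : P ⧸ frattini P), ρ e w ≠ w := by
    by_contra hall
    push Not at hall
    refine hPne fun e he => Subgroup.mem_centralizer_iff.mpr fun u hu => ?_
    have hu' : u ∈ P := hu
    have h1 := hall ⟨e, he⟩ ((⟨u, hu'⟩ : P) : P ⧸ frattini P)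
    simp only [ρ, MonoidHom.comp_apply, hρN] at h1
    have h2 : u⁻¹ * (e * u * e⁻¹) ∈ Φ := ⟨_, QuotientGroup.eq.mp h1.symm, rfl⟩
    obtain ⟨k, hk⟩ := hPpow _ (hdP e he u hu')
    exact (mul_inv_eq_iff_eq_mul.mp (twist e he u q k hqodd hk (hEΦ e he _ h2))).symm
  letI : CommGroup (P ⧸ frattini P) :=
    { (inferInstance : Group (P ⧸ frattini P)) with mul_comm := PGroup.quotient_frattini_commute hPq }
  letI : CommGroup E :=
    { (inferInstance : Group E) with mul_comm := fun a b => Subtype.ext (b.2.2.1 a a.2.1) }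
  have hσk : σ ^ (l ^ kn) = 1 := by
    rw [show σ = ρN ⟨π n, hnP⟩ from rfl, ← map_pow, show (⟨π n, hnP⟩ : Subgroup.normalizer
      (P : Set (G ⧸ Q))) ^ (l ^ kn) = 1 from Subtype.ext (by
        rw [SubmonoidClass.coe_pow, ← map_pow π, hkn, map_one]; rfl), map_one]
  have hτk : τ ^ (l ^ kn) = 1 := by
    rw [show τ = E.normalizerMonoidHom ⟨π n, hnE⟩ from rfl, ← map_pow, show (⟨π n, hnE⟩ :
      Subgroup.normalizer (E : Set (G ⧸ Q))) ^ (l ^ kn) = 1 from Subtype.ext (by
        rw [SubmonoidClass.coe_pow, ← map_pow π, hkn, map_one]; rfl), map_one]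
  obtain ⟨f, hfeig, hfd, hfind⟩ := exists_eigen_orbit (E := E) (W := P ⧸ frattini P) hq2 hl
    (PGroup.quotient_frattini_pow hPq) (fun e => Subtype.ext e.2.2.2) ρ hρ σ τ
    (fun e => by
      show ρN ⟨π n, hnP⟩ * ρN (Subgroup.inclusion hEP e) =
        ρN (Subgroup.inclusion hEP (τ e)) * ρN ⟨π n, hnP⟩
      rw [← map_mul, ← map_mul]
      refine congrArg ρN (Subtype.ext ?_)
      show π n * (e : G ⧸ Q) = π n * e * (π n)⁻¹ * π n
      rw [inv_mul_cancel_right])
    kn hσk hτk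
    (fun e he => Subtype.ext (hEfpf e e.2 (congrArg Subtype.val he)))
  -- commuting preimages
  let a : Fin l → P := fun i => (f i).out
  have ha : ∀ i, ((a i : P) : P ⧸ frattini P) = f i := fun i => QuotientGroup.out_eq' _
  have hcomm : ∀ i i', ∀ e : E, ρ e (f i) = f i → ρ e (f i') = (f i')⁻¹ →
      Commute (a i) (a i') := by
    intro i i' e hi hi'
    rw [← ha] at hi hi'
    rw [← QuotientGroup.mk_inv] at hi'
    simp only [ρ, MonoidHom.comp_apply, hρN] at hi hi'
    set ψ := P.normalizerMonoidHom (Subgroup.inclusion hEP e) with hψ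
    have hzc : ∀ v : P, v ∈ frattini P → ∀ u : P, Commute v u := fun v hv u =>
      Subtype.ext (hΦc u u.2 v ⟨v, hv, rfl⟩).symm
    have hψz : ∀ v : P, v ∈ frattini P → ψ v = v := fun v hv => Subtype.ext (by
      show (e : G ⧸ Q) * v * (e : G ⧸ Q)⁻¹ = v
      rw [hEΦ e e.2 v ⟨v, hv, rfl⟩, mul_inv_cancel_right])
    obtain ⟨φ₁, hφ₁, e₁'⟩ : ∃ φ₁ ∈ frattini P, ψ (a i) = a i * φ₁ :=
      ⟨_, QuotientGroup.eq.mp hi.symm, (mul_inv_cancel_left _ _).symm⟩
    obtain ⟨φ₂, hφ₂, e₂'⟩ : ∃ φ₂ ∈ frattini P, ψ (a i') = (a i')⁻¹ * φ₂ :=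
      ⟨_, QuotientGroup.eq.mp hi'.symm, (mul_inv_cancel_left _ _).symm⟩
    set zc := a i * a i' * (a i)⁻¹ * (a i')⁻¹ with hzc'
    have hzF : zc ∈ frattini P := PGroup.comm_mem_frattini hPq _ _
    have h1 : ψ zc = zc⁻¹ := by
      calc ψ zc = (a i * φ₁) * ((a i')⁻¹ * φ₂) * (a i * φ₁)⁻¹ * ((a i')⁻¹ * φ₂)⁻¹ := by
            rw [hzc', map_mul, map_mul, map_mul, map_inv, map_inv, e₁', e₂']
        _ = a i * (φ₁ * ((a i')⁻¹ * φ₂) * φ₁⁻¹) * (a i)⁻¹ * φ₂⁻¹ * a i' := by group
        _ = a i * (a i')⁻¹ * (φ₂ * (a i)⁻¹ * φ₂⁻¹) * a i' := by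
            rw [(hzc φ₁ hφ₁ _).eq, mul_inv_cancel_right]; group
        _ = a i * (a i')⁻¹ * (a i)⁻¹ * a i' := by rw [(hzc φ₂ hφ₂ _).eq, mul_inv_cancel_right]
        _ = (a i')⁻¹ * zc⁻¹ * a i' := by rw [hzc']; group
        _ = zc⁻¹ := by
            rw [← ((hzc zc hzF (a i')⁻¹).inv_left).eq, inv_mul_cancel_right]
    rw [hψz zc hzF] at h1
    obtain ⟨k, hk⟩ := hPq zc
    have h3 : zc = 1 := eq_one_of_sq_of_odd hqodd (by
      rw [sq]; nth_rewrite 2 [h1]; exact mul_inv_cancel zc) hk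
    rw [hzc'] at h3
    exact mul_inv_eq_iff_eq_mul.mp (mul_inv_eq_one.mp h3)
  have hcomm' : ∀ i i', Commute (a i) (a i') := by
    intro i i'
    rcases eq_or_ne i i' with rfl | hne
    · exact Commute.refl _
    obtain ⟨e, he⟩ := hfd i i' hne
    rcases hfeig i e with h1 | h1 <;> rcases hfeig i' e with h2 | h2
    · exact absurd (iff_of_true h1 h2) he
    · exact hcomm i i' e h1 h2
    · exact (hcomm i' i e h2 h1).symm
    · by_cases h3 : ρ e (f i) = f i
      · exact hcomm i i' e h3 h2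
      · by_cases h4 : ρ e (f i') = f i'
        · exact (hcomm i' i e h4 h1).symm
        · exact absurd (iff_of_false h3 h4) he
  let A₀ : Subgroup P := Subgroup.closure (Set.range a)
  have hA₀c : ∀ u ∈ A₀, ∀ v ∈ A₀, u * v = v * u := by
    have h1 : A₀ ≤ Subgroup.centralizer (Set.range a) := (Subgroup.closure_le _).mpr (by
      rintro _ ⟨i, rfl⟩
      refine Subgroup.mem_centralizer_iff.mpr ?_
      rintro _ ⟨i', rfl⟩
      exact (hcomm' i' i).eq)
    have h2 : A₀ ≤ Subgroup.centralizer (A₀ : Set P) := (Subgroup.closure_le _).mpr fun u hu =>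
      Subgroup.mem_centralizer_iff.mpr fun v hv => (Subgroup.mem_centralizer_iff.mp (h1 hv) u hu).symm
    exact fun u hu v hv => Subgroup.mem_centralizer_iff.mp (h2 hv) u hu
  letI : CommGroup A₀ :=
    { (inferInstance : Group A₀) with mul_comm := fun u v => Subtype.ext (hA₀c u u.2 v v.2) }
  set pw : A₀ →* A₀ := powMonoidHom q
  let A₁ : Subgroup A₀ := pw.ker
  have hA₁q : ∀ u : A₁, u ^ q = 1 := fun u => Subtype.ext u.2
  obtain ⟨k, hk⟩ : ∃ k, Nat.card A₁ = q ^ k := IsPGroup.iff_card.mp fun u =>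
    ⟨1, by rw [pow_one]; exact hA₁q u⟩
  have hlk : l ≤ k := by
    let g : A₀ →* P ⧸ frattini P := (QuotientGroup.mk' (frattini P)).comp A₀.subtype
    have hker : pw.range ≤ g.ker := by
      rintro _ ⟨u, rfl⟩
      rw [MonoidHom.mem_ker]
      show g (u ^ q) = 1
      rw [map_pow]
      exact PGroup.quotient_frattini_pow hPq _
    let Ψ : (Fin l → ZMod q) → g.range := fun c =>
      ⟨∏ i, f i ^ (c i).val, prod_mem fun i _ => pow_mem
        (show f i ∈ g.range from ⟨⟨a i, Subgroup.subset_closure ⟨i, rfl⟩⟩, ha i⟩) _⟩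
    have hΨ : Function.Injective Ψ := by
      intro c c' hcc
      have h1 := congrArg Subtype.val hcc
      refine sub_eq_zero.mp (hfind (c - c') ?_)
      have hpw : ∀ (i : Fin l) (x y : ℕ), (x : ZMod q) = y → f i ^ x = f i ^ y := fun i x y hxy => by
        rw [pow_eq_pow_mod x (PGroup.quotient_frattini_pow hPq (f i)),
          pow_eq_pow_mod y (PGroup.quotient_frattini_pow hPq (f i)),
          (ZMod.natCast_eq_natCast_iff' x y q).mp hxy]
      have h2 : (∏ i, f i ^ ((c - c') i).val) * ∏ i, f i ^ (c' i).val = ∏ i, f i ^ (c i).val := by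
        rw [← Finset.prod_mul_distrib]
        refine Finset.prod_congr rfl fun i _ => ?_
        rw [← pow_add]
        exact hpw i _ _ (by simp)
      exact mul_eq_right.mp (h2.trans h1)
    have h1 := Nat.card_le_card_of_injective Ψ hΨ
    rw [Nat.card_fun, Nat.card_fin, Nat.card_zmod, ← Subgroup.index_ker] at h1
    have h2 : g.ker.index ≤ pw.range.index :=
      Nat.le_of_dvd (Nat.pos_of_ne_zero Subgroup.index_ne_zero_of_finite)
        (Subgroup.index_dvd_of_le hker)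
    have h3 : pw.range.index = Nat.card A₁ := by
      have e1 := Subgroup.card_mul_index pw.range
      have e2 := Subgroup.card_mul_index pw.ker
      rw [Subgroup.index_ker, ← e1, mul_comm (Nat.card pw.range)] at e2
      exact (Nat.eq_of_mul_eq_mul_right Nat.card_pos e2).symm
    rw [h3, hk] at h2
    exact (Nat.pow_le_pow_iff_right hq.one_lt).mp (h1.trans h2)
  -- the faithful module
  obtain ⟨K, hKn, hVK, hKcard, hKQ, hKc, hKsq, hKfaith⟩ := h.exists_module
  haveI := hKn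
  set V' := (omegaSub G).subgroupOf K with hV'
  have hnorm : ∀ g : G, V'.map (MulAut.conjNormal g : MulAut K) = V' := by
    intro g
    refine le_antisymm ?_ ?_
    · rintro _ ⟨u, hu, rfl⟩
      show g * (u : G) * g⁻¹ ∈ omegaSub G
      exact omegaSub_normal.conj_mem _ hu g
    · intro u hu
      refine ⟨(MulAut.conjNormal g : MulAut K)⁻¹ u, ?_, (MulAut.conjNormal g : MulAut K).apply_symm_apply u⟩
      show (((MulAut.conjNormal g : MulAut K)⁻¹ u : K) : G) ∈ omegaSub G
      rw [← map_inv, MulAut.conjNormal_apply, inv_inv]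
      exact omegaSub_normal.conj_mem' _ hu g
  let θ₀ : G →* MulAut (K ⧸ V') := MonoidHom.mk'
    (fun g => QuotientGroup.congr V' V' (MulAut.conjNormal g) (hnorm g)) fun g g' => by
      refine MulEquiv.ext fun w => ?_
      obtain ⟨u, rfl⟩ := QuotientGroup.mk_surjective w
      show ((MulAut.conjNormal (g * g') u : K) : K ⧸ V') = _
      rw [map_mul]; rfl
  have hθ : ∀ g, θ₀ g = 1 ↔ ∀ u ∈ K, u⁻¹ * (g * u * g⁻¹) ∈ omegaSub G := by
    intro g
    constructor
    · intro hg u hu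
      have h1 := DFunLike.congr_fun hg ((⟨u, hu⟩ : K) : K ⧸ V')
      have h2 := QuotientGroup.eq.mp h1.symm
      simpa [hV', Subgroup.mem_subgroupOf, MulAut.conjNormal_apply] using h2
    · intro hg
      refine MulEquiv.ext fun w => ?_
      obtain ⟨u, rfl⟩ := QuotientGroup.mk_surjective w
      refine (QuotientGroup.eq.mpr ?_).symm
      simpa [hV', Subgroup.mem_subgroupOf, MulAut.conjNormal_apply] using hg u u.2
  let θ : G ⧸ Q →* MulAut (K ⧸ V') := QuotientGroup.lift Q θ₀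
    fun u hu => MonoidHom.mem_ker.mpr ((hθ u).mpr (hKQ u hu))
  let φ : A₁ →* MulAut (K ⧸ V') := θ.comp (P.subtype.comp (A₀.subtype.comp A₁.subtype))
  have hφ : Function.Injective φ := by
    rw [injective_iff_map_eq_one]
    intro u hu
    obtain ⟨g₀, hg₀, hgu⟩ : ((u : A₀) : P).1 ∈ C' := (hPF ((u : A₀) : P).2).2
    set s := ordProj[2] (orderOf g₀)
    set g := g₀ ^ s with hg
    have hodd : Odd (orderOf g) := by
      have h0 : orderOf g₀ ≠ 0 := (orderOf_pos g₀).ne'
      have h2 : orderOf g ∣ ordCompl[2] (orderOf g₀) := by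
        refine orderOf_dvd_of_pow_eq_one ?_
        rw [hg, ← pow_mul, Nat.ordProj_mul_ordCompl_eq_self, pow_orderOf_eq_one]
      exact Odd.of_dvd_nat (Nat.coprime_two_left.mp (Nat.coprime_ordCompl Nat.prime_two h0)) h2
    have hπg : π g = ((u : A₀) : P).1 ^ s := by rw [hg, map_pow, ← hgu]
    have h1 : θ₀ g = 1 := by
      show θ (π g) = 1
      rw [hπg, map_pow, show θ ((u : A₀) : P).1 = 1 from hu, one_pow]
    have h2 := hKfaith g (pow_mem hg₀ s) hodd ((hθ g).mp h1)
    rw [h2, map_one] at hπg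
    have h3 : (((u : A₀) : P).1) ^ q = 1 := congrArg (fun v : A₀ => ((v : P) : G ⧸ Q)) u.2
    have h4 := pow_gcd_eq_one.mpr ⟨hπg.symm, h3⟩
    rw [((Nat.coprime_primes Nat.prime_two hq).mpr (Ne.symm hq2)).pow_left _ |>.gcd_eq_one,
      pow_one] at h4
    exact Subtype.ext (Subtype.ext (Subtype.ext h4))
  have hW2 : ∀ w : K ⧸ V', w ^ 2 = 1 := fun w => by
    obtain ⟨u, rfl⟩ := QuotientGroup.mk_surjective w
    rw [← QuotientGroup.mk_pow, QuotientGroup.eq_one_iff]
    exact hKsq u u.2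
  letI : CommGroup (K ⧸ V') :=
    { (inferInstance : Group (K ⧸ V')) with
      mul_comm := fun w w' => by
        have hi : ∀ z : K ⧸ V', z⁻¹ = z := fun z =>
          inv_eq_of_mul_eq_one_right (by rw [← sq]; exact hW2 z)
        calc w * w' = (w * w')⁻¹ := (hi _).symm
          _ = w' * w := by rw [mul_inv_rev, hi, hi] }
  have hbound := four_pow_le hq hq2 k hW2 hA₁q hk φ hφ
  have hKW := V'.card_eq_card_quotient_mul_card_subgroup
  rw [show Nat.card V' = Nat.card (omegaSub G) from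
    Nat.card_congr (Subgroup.subgroupOfEquivOfLe hVK).toEquiv] at hKW
  rw [hKW, pow_succ, hcard] at hKcard
  have h5 := Nat.le_of_mul_le_mul_right hKcard (Nat.two_pow_pos d)
  have h6 : 4 ^ k ≤ 4 ^ d := by
    refine hbound.trans (h5.trans (le_of_eq ?_))
    rw [← pow_mul, mul_comm, pow_mul]
    norm_num
  have := (Nat.pow_le_pow_iff_right (by norm_num)).mp h6
  omega

end Cfsg.Agent.TwoLenInv
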