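import Cfsg.Agent.TwoLenInv.Kernel

/-!
# The Sylow `2`-subgroup is normal
-/

set_option autoImplicit false

namespace Cfsg.Agent.TwoLenInv

variable {G : Type*} [Group G] [Finite G]

/-- `C(V) / O₂(G)` has odd order. -/
theorem Hyp.odd_card_cenV (h : Hyp G) :
    Odd (Nat.card ((cenV G).map (QuotientGroup.mk' (Cfsg.pCore 2 G)))) := by
  haveI := Fact.mk Nat.prime_two
  rw [← Nat.not_even_iff_odd]
  intro hev
  obtain ⟨e, he⟩ := exists_prime_orderOf_dvd_card' 2 hev.two_dvd
  obtain ⟨g, hg, hge⟩ := e.2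
  have h0 : orderOf g ≠ 0 := (orderOf_pos g).ne'
  set m := ordCompl[2] (orderOf g) with hm
  have hmem : g ^ m ∈ Cfsg.pCore 2 G := h.mem_pCore_of_mem_cenV (pow_mem hg m)
    ⟨(orderOf g).factorization 2, by
      rw [← pow_mul, mul_comm, hm, Nat.ordProj_mul_ordCompl_eq_self, pow_orderOf_eq_one]⟩
  have h1 : (e : G ⧸ Cfsg.pCore 2 G) ^ m = 1 := by
    rw [← hge, ← map_pow]; exact (QuotientGroup.eq_one_iff _).mpr hmem
  have h2 : (e : G ⧸ Cfsg.pCore 2 G) ^ 2 = 1 := by
    have h' : e ^ 2 = 1 := by have := pow_orderOf_eq_one e; rwa [he] at this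
    rw [← SubmonoidClass.coe_pow, h']; rfl
  have h3 := pow_gcd_eq_one.mpr ⟨h2, h1⟩
  rw [(Nat.coprime_ordCompl Nat.prime_two h0).gcd_eq_one, pow_one] at h3
  rw [← orderOf_eq_one_iff, Subgroup.orderOf_coe, he] at h3
  omega

/-- **All `2`-elements lie in `O₂(G)`.** -/
theorem Hyp.mem_pCore (h : Hyp G) : ∀ (k : ℕ) (x : G), x ^ (2 ^ k) = 1 → x ∈ Cfsg.pCore 2 G := by
  classical
  haveI := Fact.mk Nat.prime_two
  intro k
  induction k with
  | zero => intro x hx; rw [pow_zero, pow_one] at hx; rw [hx]; exact one_mem _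
  | succ k ih =>
    intro x hx
    have hx2 : x ^ 2 ∈ Cfsg.pCore 2 G := ih _ (by rwa [← pow_mul, ← pow_succ'])
    by_contra hxQ
    set Q := Cfsg.pCore 2 G with hQdef
    have hQ : IsPGroup 2 Q := Thompson.isPGroup_pCore
    have hxC : x ∉ cenV G := fun hC => hxQ (h.mem_pCore_of_mem_cenV hC ⟨k + 1, hx⟩)
    set b := act G x with hb
    have hb2 : b * b = 1 := by
      rw [hb, ← map_mul, ← sq, act_eq_one_iff]; exact pCore_le_cenV hx2
    have hbinv : b⁻¹ = b := inv_eq_of_mul_eq_one_right hb2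
    obtain ⟨l, A, hl, hl2, hAne, hAH, hnorm, hexp, hcomm, hfpf⟩ := h.exists_fpf_normal
    obtain ⟨a, haA, ha1⟩ := A.bot_or_exists_ne_one.resolve_left hAne
    haveI := Fact.mk hl
    have lift : ∀ c ∈ A, c ≠ 1 → ∃ y, act G y = c ∧ orderOf (act G y) = l ∧ Fpf y := by
      intro c hc hc1
      obtain ⟨y, rfl⟩ := hAH hc
      exact ⟨y, rfl, orderOf_eq_prime (hexp _ hc) hc1, fpf_iff.mpr (hfpf _ hc hc1)⟩
    have ha' : b * a * b⁻¹ ∈ A := hnorm x a haA
    let π := QuotientGroup.mk' Q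
    have hcopQ : ∀ (n : G) (j : ℕ), n ^ (l ^ j) = 1 → (orderOf n).Coprime (Nat.card Q) := by
      intro n j hn
      obtain ⟨i, hi⟩ := IsPGroup.iff_card.mp hQ
      rw [hi]
      exact (((Nat.coprime_primes hl Nat.prime_two).mpr hl2).pow j i).coprime_dvd_left
        (orderOf_dvd_of_pow_eq_one hn)
    have hQnorm : ∀ g : G, g ∈ Subgroup.normalizer (Q : Set G) := fun g => by
      rw [Subgroup.normalizer_eq_top]; exact Subgroup.mem_top g
    have hx2π : π x ^ 2 = 1 := by
      rw [← map_pow]; exact (QuotientGroup.eq_one_iff _).mpr hx2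
    by_cases hcase : a * (b * a * b⁻¹) = 1
    · -- `x` inverts `a`
      have hba : b * a * b⁻¹ = a⁻¹ := eq_inv_of_mul_eq_one_right hcase
      obtain ⟨y, hya, -, -⟩ := lift a haA ha1
      set u := y * x * y⁻¹ * x⁻¹ with hu
      have hau : act G u = a * a := by
        rw [hu, map_mul, map_mul, map_mul, map_inv, map_inv, hya, ← hb]
        rw [show a * b * a⁻¹ * b⁻¹ = a * (b * a⁻¹ * b⁻¹) by simp only [mul_assoc], ← conj_inv, hba,
          inv_inv]
      have hau1 : a * a ≠ 1 := fun e => by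
        have h1 := orderOf_dvd_of_pow_eq_one (show a ^ 2 = 1 by rw [sq]; exact e)
        rw [orderOf_eq_prime (hexp a haA) ha1] at h1
        exact hl2 ((Nat.prime_dvd_prime_iff_eq hl Nat.prime_two).mp h1)
      have huA : a * a ∈ A := mul_mem haA haA
      have hordu : orderOf (act G u) = l := by rw [hau]; exact orderOf_eq_prime (hexp _ huA) hau1
      have hufpf : Fpf u := fpf_iff.mpr (hau ▸ hfpf _ huA hau1)
      obtain ⟨m, hm, j, hj⟩ := exists_lElem (g := u) hl hordu
      set r := u ^ m with hr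
      have hrfpf : Fpf r := hufpf.pow (by rw [hordu]; exact hm)
      have hπu : π x * π u * (π x)⁻¹ = (π u)⁻¹ := by
        have hxx : (π x)⁻¹ = π x := inv_eq_of_mul_eq_one_right (by rw [← sq]; exact hx2π)
        simp only [hu, map_mul, map_inv, mul_inv_rev, inv_inv]
        rw [hxx]
        calc π x * (π y * π x * (π y)⁻¹ * π x) * π x
            = π x * π y * π x * (π y)⁻¹ * (π x * π x) := by group
          _ = π x * (π y * (π x * (π y)⁻¹)) := by
              rw [← sq, hx2π, mul_one]; simp only [mul_assoc]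
          _ = _ := by
              simp only [hxx]
              exact congrArg (fun t => π x * (t * (π x * (π y)⁻¹))) (inv_inv (π y)).symm
      have hπr : π x * π r * (π x)⁻¹ = (π r)⁻¹ := by
        rw [hr, map_pow, ← conj_pow, hπu, inv_pow]
      -- move `x` into the normalizer of `⟨r⟩`
      have hxr : x * r * x⁻¹ ∈ Q ⊔ Subgroup.zpowers r := by
        have h1 : x * r * x⁻¹ * r ∈ Q := by
          rw [← QuotientGroup.eq_one_iff]
          show π (x * r * x⁻¹ * r) = 1
          simp only [map_mul, map_inv]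
          rw [hπr, inv_mul_cancel]
        rw [show x * r * x⁻¹ = x * r * x⁻¹ * r * r⁻¹ by rw [mul_inv_cancel_right]]
        exact mul_mem (Subgroup.mem_sup_left h1)
          (Subgroup.mem_sup_right (inv_mem (Subgroup.mem_zpowers r)))
      obtain ⟨q, hqQ, hq⟩ := Coprime.exists_conj_le Q (Subgroup.zpowers (x * r * x⁻¹))
        (Subgroup.zpowers r) (fun g _ => hQnorm g) (fun g _ => hQnorm g)
        (Subgroup.zpowers_le.mpr hxr)
        (by rw [Nat.card_zpowers]; exact hcopQ _ j (by rw [conj_pow, hj, mul_one, mul_inv_cancel]))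
        (by rw [Nat.card_zpowers]; exact hcopQ _ j hj) (Or.inl inferInstance)
      set x₁ := q * x with hx₁
      have hx₁r : x₁ * r * x₁⁻¹ ∈ Subgroup.zpowers r := by
        have h1 := hq _ (Subgroup.mem_zpowers _)
        rw [hx₁]
        simpa [mul_assoc] using h1
      have hzn : ∀ z ∈ Subgroup.zpowers r, x₁ * z * x₁⁻¹ ∈ Subgroup.zpowers r := by
        intro z hz
        obtain ⟨i, rfl⟩ := Subgroup.mem_zpowers_iff.mp hz
        rw [← conj_zpow]; exact zpow_mem hx₁r i
      have hx₁Q : x₁ ^ 2 ∈ Q := by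
        rw [← QuotientGroup.eq_one_iff]
        show π (x₁ ^ 2) = 1
        rw [map_pow, hx₁, map_mul, show π q = 1 from (QuotientGroup.eq_one_iff q).mpr hqQ, one_mul,
          hx2π]
      have hcz : x₁ ^ 2 * r * (x₁ ^ 2)⁻¹ * r⁻¹ = 1 := by
        have hz : x₁ ^ 2 * r * (x₁ ^ 2)⁻¹ * r⁻¹ ∈ Subgroup.zpowers r := by
          refine mul_mem ?_ (inv_mem (Subgroup.mem_zpowers r))
          rw [show x₁ ^ 2 * r * (x₁ ^ 2)⁻¹ = x₁ * (x₁ * r * x₁⁻¹) * x₁⁻¹ by rw [sq]; group]
          exact hzn _ hx₁r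
        have hzQ : x₁ ^ 2 * r * (x₁ ^ 2)⁻¹ * r⁻¹ ∈ Q := by
          rw [show x₁ ^ 2 * r * (x₁ ^ 2)⁻¹ * r⁻¹ = x₁ ^ 2 * (r * (x₁ ^ 2)⁻¹ * r⁻¹) by group]
          exact mul_mem hx₁Q ((Thompson.instPCoreNormal).conj_mem _ (inv_mem hx₁Q) r)
        have hcop : (Subgroup.zpowers r ⊓ Q : Subgroup G) = ⊥ :=
          Subgroup.inf_eq_bot_of_coprime (by rw [Nat.card_zpowers]; exact hcopQ _ j hj)
        exact Subgroup.mem_bot.mp (hcop ▸ Subgroup.mem_inf.mpr ⟨hz, hzQ⟩)
      obtain ⟨i, hi⟩ := hQ ⟨_, hx₁Q⟩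
      have h1 : x₁ ^ 2 = 1 := h.eq_one_of_commute hrfpf i _ (by simpa using congrArg Subtype.val hi)
        (by
          have h2 : x₁ ^ 2 * r * (x₁ ^ 2)⁻¹ = r := mul_inv_eq_one.mp hcz
          exact (mul_inv_eq_iff_eq_mul.mp h2).symm)
      refine hxQ ?_
      rw [show x = q⁻¹ * x₁ by rw [hx₁, inv_mul_cancel_left]]
      exact mul_mem (inv_mem hqQ) (h.mem_of_sq h1).1
    · -- `x` centralizes a fixed-point-free element
      set c := a * (b * a * b⁻¹) with hc
      have hcA : c ∈ A := mul_mem haA ha'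
      have hbc : b * c = c * b := by
        have h2 : b * c * b⁻¹ = c := by
          calc b * c * b⁻¹ = b * a * b⁻¹ * (b * b * a * (b * b)⁻¹) := by rw [hc]; group
            _ = b * a * b⁻¹ * a := by rw [hb2, inv_one, one_mul, mul_one]
            _ = c := hcomm _ ha' _ haA
        exact mul_inv_eq_iff_eq_mul.mp h2
      obtain ⟨y, hyc, -, -⟩ := lift c hcA hcase
      set C' := (cenV G).map π
      haveI : C'.Normal :=
        (inferInstance : (cenV G).Normal).map π (QuotientGroup.mk'_surjective Q)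
      have hmem : (π y)⁻¹ * (π x * π y * (π x)⁻¹) ∈ C' := by
        refine ⟨y⁻¹ * (x * y * x⁻¹), ?_, by simp [map_mul, map_inv]⟩
        refine act_eq_one_iff.mp ?_
        rw [map_mul, map_mul, map_mul, map_inv, map_inv, hyc, ← hb, hbc, mul_inv_cancel_right,
          inv_mul_cancel]
      obtain ⟨z, hz, hzc⟩ := exists_commute_in_coset (π x) (π y) C'
        (by rw [Subgroup.normalizer_eq_top]; exact Subgroup.mem_top _)
        ((Nat.coprime_two_left.mpr h.odd_card_cenV).coprime_dvd_left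
          (orderOf_dvd_of_pow_eq_one hx2π)) hmem
      obtain ⟨z₀, hz₀, rfl⟩ := hz
      rw [← map_mul] at hzc
      have hord : orderOf (act G (y * z₀)) = l := by
        rw [map_mul, act_eq_one_iff.mpr hz₀, mul_one, hyc]
        exact orderOf_eq_prime (hexp c hcA) hcase
      have hfpf' : Fpf (y * z₀) := fpf_iff.mpr (by
        rw [map_mul, act_eq_one_iff.mpr hz₀, mul_one, hyc]; exact hfpf c hcA hcase)
      obtain ⟨m, hm, j, hj⟩ := exists_lElem (g := y * z₀) hl hord
      set n := (y * z₀) ^ m with hn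
      have hnfpf : Fpf n := hfpf'.pow (by rw [hord]; exact hm)
      have hπn : π n * π x = π x * π n := by
        rw [hn, map_pow]
        exact ((show Commute (π x) (π (y * z₀)) from hzc).pow_right m).symm
      have hmem' : x⁻¹ * (n * x * n⁻¹) ∈ Q := by
        rw [← QuotientGroup.eq_one_iff]
        show π (x⁻¹ * (n * x * n⁻¹)) = 1
        simp only [map_mul, map_inv]
        rw [hπn, mul_inv_cancel_right, inv_mul_cancel]
      obtain ⟨q, hq, hnq⟩ := exists_commute_in_coset n x Q (hQnorm n) (hcopQ n j hj) hmem'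
      -- `x * q` is a `2`-element
      have hxq : (x * q) ^ 2 ∈ Q := by
        rw [← QuotientGroup.eq_one_iff]
        show π ((x * q) ^ 2) = 1
        rw [map_pow, map_mul, show π q = 1 from (QuotientGroup.eq_one_iff q).mpr hq, mul_one, hx2π]
      obtain ⟨i, hi⟩ := hQ ⟨_, hxq⟩
      have h1 := h.eq_one_of_commute hnfpf (i + 1) (x * q)
        (by rw [pow_succ', pow_mul]; simpa using congrArg Subtype.val hi) hnq
      exact hxQ (eq_inv_of_mul_eq_one_left h1 ▸ inv_mem hq)

end Cfsg.Agent.TwoLenInv
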